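import Groth.Agent.ProEtDCLib.Abstract
import Mathlib.Algebra.Homology.DerivedCategory.Ext.EnoughProjectives
import Mathlib.Algebra.Homology.DerivedCategory.Ext.EnoughInjectives
import Mathlib.Algebra.Homology.DerivedCategory.Ext.Linear
import Mathlib.CategoryTheory.Abelian.GrothendieckCategory.EnoughInjectives

/-!
# `Ext` into derived complete objects
-/

set_option autoImplicit false
set_option linter.style.haveILetI false
set_option backward.isDefEq.respectTransparency false
set_option backward.isDefEq.respectTransparency.types false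

namespace Groth.Agent.ProEtDCLib

open CategoryTheory Limits Abelian

universe w' v u w

variable {Λ : Type w} [CommRing Λ] {C : Type u} [Category.{v} C] [Abelian C] [Linear Λ C] [HasExt.{w'} C]

/-- Precomposition with `f • 𝟙` on `Ext`. -/
noncomputable def extSmul (f : Λ) (Z F : C) (n : ℕ) : Ext Z F n →+ Ext Z F n :=
  (Ext.mk₀ (f • 𝟙 Z)).precomp F (zero_add n)

theorem extSmul_apply (f : Λ) {Z F : C} {n : ℕ} (x : Ext Z F n) :
    extSmul f Z F n x = (Ext.mk₀ (f • 𝟙 Z)).comp x (zero_add n) := rfl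

theorem extSmul_comp {Y Z : C} (f : Λ) (g : Y ⟶ Z) {F : C} {n : ℕ} (x : Ext Z F n) :
    (Ext.mk₀ g).comp (extSmul f Z F n x) (zero_add n) = extSmul f Y F n ((Ext.mk₀ g).comp x (zero_add n)) := by
  rw [extSmul_apply, extSmul_apply, Ext.mk₀_comp_mk₀_assoc, Ext.mk₀_comp_mk₀_assoc, Linear.comp_smul,
    Linear.smul_comp, Category.comp_id, Category.id_comp]

theorem dBij_ext_zero_iff (f : Λ) (Z F : C) : DBij (extSmul f Z F 0) ↔ DBij (preSmul f Z F) := by
  let e : (Z ⟶ F) →+ Ext Z F 0 := (Ext.addEquiv₀ (X := Z) (Y := F)).symm.toAddMonoidHom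
  have he : Function.Bijective e := (Ext.addEquiv₀ (X := Z) (Y := F)).symm.bijective
  have hc : ∀ a, e (preSmul f Z F a) = extSmul f Z F 0 (e a) := fun a =>
    (Ext.mk₀_comp_mk₀ (f • 𝟙 Z) a).symm
  exact ⟨fun h => DBij.of_bijective' e he hc h, fun h => DBij.of_bijective e he hc h⟩

variable [EnoughProjectives C]

/-- All `Ext^n(Z, F)` into a derived complete object are derived complete. -/
theorem dBij_ext_of_dco {f : Λ} {F : C} (h : DCO f F) : ∀ (n : ℕ) (Z : C), DBij (extSmul f Z F n) := by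
  intro n
  induction n with
  | zero =>
    intro Z
    let S : ShortComplex C := ShortComplex.mk (Limits.kernel.ι (Projective.π Z)) (Projective.π Z) (kernel.condition _)
    have hS : S.Exact := ShortComplex.exact_of_f_is_kernel _ (kernelIsKernel _)
    haveI : Epi S.g := inferInstanceAs (Epi (Projective.π Z))
    let P' := Projective.over S.X₁
    rw [dBij_ext_zero_iff]
    refine DBij.ker (Preadditive.leftComp F S.g) (Preadditive.leftComp F (Projective.π S.X₁ ≫ S.f))
      (φB := preSmul f _ F) (φC := preSmul f _ F) ?_ ?_ (fun _ _ e => (cancel_epi S.g).1 e) ?_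
      (h _ inferInstance) (h _ inferInstance)
    · exact fun a => by
        show _ ≫ preSmul f _ F a = preSmul f _ F (_ ≫ a)
        rw [preSmul_apply, preSmul_apply, Linear.comp_smul]
    · exact fun a => by
        show _ ≫ preSmul f _ F a = preSmul f _ F (_ ≫ a)
        rw [preSmul_apply, preSmul_apply, Linear.comp_smul]
    · refine fun a => ⟨fun ha => ?_, ?_⟩
      · have ha' : S.f ≫ a = 0 := (cancel_epi (Projective.π S.X₁)).1
          (((Category.assoc _ _ _).symm.trans ha).trans comp_zero.symm)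
        exact ⟨hS.desc a ha', hS.g_desc a ha'⟩
      · rintro ⟨b, rfl⟩
        show (_ ≫ S.f) ≫ S.g ≫ b = 0
        rw [Category.assoc, S.zero_assoc, Limits.zero_comp, comp_zero]
  | succ n ih =>
    intro Z
    let S : ShortComplex C := ShortComplex.mk (Limits.kernel.ι (Projective.π Z)) (Projective.π Z) (kernel.condition _)
    have hS : S.ShortExact := { exact := ShortComplex.exact_of_f_is_kernel _ (kernelIsKernel _) }
    let δ : Ext S.X₁ F n →+ Ext S.X₃ F (n + 1) := hS.extClass.precomp F (Nat.add_comm 1 n)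
    let rf : Ext S.X₂ F n →+ Ext S.X₁ F n := (Ext.mk₀ S.f).precomp F (zero_add n)
    have hP : DBij (extSmul f S.X₂ F n) := ih _
    refine DBij.coker rf δ (φB := extSmul f S.X₁ F n) (φC := extSmul f Z F (n + 1))
      (fun a => extSmul_comp f S.f a) (fun b => ?_) (fun x => ?_) ?_ hP (ih _)
    · show hS.extClass.comp _ (Nat.add_comm 1 n) = extSmul f S.X₃ F (n + 1) (hS.extClass.comp b (Nat.add_comm 1 n))
      rw [extSmul_apply, extSmul_apply, Ext.mk₀_smul, Ext.mk₀_smul, Ext.smul_comp, Ext.smul_comp,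
        Ext.mk₀_id_comp, Ext.mk₀_id_comp, Ext.comp_smul]
    · exact Ext.contravariant_sequence_exact₃ hS F x (Subsingleton.elim
        (h := ⟨fun a b => (Ext.eq_zero_of_projective a).trans (Ext.eq_zero_of_projective b).symm⟩) _ _)
        (Nat.add_comm 1 n)
    · refine fun x => ⟨fun hx => ?_, ?_⟩
      · exact Ext.contravariant_sequence_exact₁ hS F x (Nat.add_comm 1 n) hx
      · rintro ⟨b, rfl⟩
        exact hS.extClass_comp_assoc b (h := Nat.add_comm 1 n)

end Groth.Agent.ProEtDCLib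

namespace Groth.Agent.ProEtDCLib

open CategoryTheory Limits Abelian

universe w' v u w

variable {Λ : Type w} [CommRing Λ] {C : Type u} [Category.{v} C] [Abelian C] [Linear Λ C]
  [HasCoproductsOfShape ℕ C]

/-- The telescope map. -/
noncomputable def tel (f : Λ) (Z : C) : (∐ fun _ : ℕ => Z) ⟶ ∐ fun _ : ℕ => Z :=
  Sigma.desc fun n => Sigma.ι (fun _ : ℕ => Z) n - (f • 𝟙 Z) ≫ Sigma.ι (fun _ : ℕ => Z) (n + 1)

theorem ι_tel (f : Λ) (Z : C) (n : ℕ) :
    Sigma.ι (fun _ : ℕ => Z) n ≫ tel f Z =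
      Sigma.ι (fun _ : ℕ => Z) n - (f • 𝟙 Z) ≫ Sigma.ι (fun _ : ℕ => Z) (n + 1) :=
  Sigma.ι_desc _ _

theorem mono_tel (f : Λ) (Z : C) [HasProductsOfShape ℕ C] [HasColimitsOfShape (Finset (Discrete ℕ)) C]
    [HasExactColimitsOfShape (Finset (Discrete ℕ)) C] : Mono (tel f Z) := by
  classical
  let c : (∐ fun _ : ℕ => Z) ⟶ ∏ᶜ fun _ : ℕ => Z :=
    Sigma.desc fun i => Pi.lift fun j => if i = j then 𝟙 Z else 0
  have hc : ∀ i j, Sigma.ι (fun _ : ℕ => Z) i ≫ c ≫ Pi.π (fun _ : ℕ => Z) j = if i = j then 𝟙 Z else 0 :=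
    fun i j => by rw [Sigma.ι_desc_assoc, Pi.lift_π]
  haveI : Mono c := mono_sigma_to_pi _ c (fun i => by rw [hc]; simp) (fun i j h => by rw [hc, if_neg h])
  let P : ℕ → ((∏ᶜ fun _ : ℕ => Z) ⟶ Z) := Pi.π (fun _ : ℕ => Z)
  let ψ : (∏ᶜ fun _ : ℕ => Z) ⟶ ∏ᶜ fun _ : ℕ => Z :=
    Pi.lift fun n => match n with
      | 0 => P 0
      | m + 1 => P (m + 1) - P m ≫ (f • 𝟙 Z)
  have h0 : ψ ≫ P 0 = P 0 := Pi.lift_π _ _
  have hs : ∀ m, ψ ≫ P (m + 1) = P (m + 1) - P m ≫ (f • 𝟙 Z) := fun m => Pi.lift_π _ _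
  haveI : Mono ψ := Preadditive.mono_of_cancel_zero _ fun {W} a ha => by
    refine Pi.hom_ext _ _ fun n => ?_
    rw [Limits.zero_comp]
    induction n with
    | zero =>
      show a ≫ P 0 = 0
      rw [← h0, ← Category.assoc, ha, Limits.zero_comp]
    | succ m ih =>
      show a ≫ P (m + 1) = 0
      have := congrArg (· ≫ P (m + 1)) ha
      rw [Category.assoc, hs, Preadditive.comp_sub, ← Category.assoc, ih, Limits.zero_comp, Limits.zero_comp,
        sub_zero] at this
      exact this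
  have hcomm : tel f Z ≫ c = c ≫ ψ := by
    refine Sigma.hom_ext _ _ fun i => Pi.hom_ext _ _ fun j => ?_
    rw [← Category.assoc, ι_tel, Category.assoc, Category.assoc, Preadditive.sub_comp, Category.assoc, hc, hc]
    cases j with
    | zero =>
      show _ = Sigma.ι (fun _ : ℕ => Z) i ≫ (c ≫ ψ) ≫ P 0
      rw [Category.assoc c, h0, hc, if_neg (Nat.succ_ne_zero i), comp_zero, sub_zero]
    | succ m =>
      show _ = Sigma.ι (fun _ : ℕ => Z) i ≫ (c ≫ ψ) ≫ P (m + 1)
      rw [Category.assoc c, hs, Preadditive.comp_sub, Preadditive.comp_sub, hc]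
      congr 1
      rw [← Category.assoc c, ← Category.assoc, hc]
      by_cases h : i = m
      · subst h; simp
      · rw [if_neg h, if_neg (by omega), comp_zero, Limits.zero_comp]
  haveI : Mono (tel f Z ≫ c) := by rw [hcomm]; exact mono_comp _ _
  exact mono_of_mono (tel f Z) c

variable [HasExt.{w'} C]

/-- Components of an extension class on a countable sum. -/
noncomputable def extComp (Z F : C) (n : ℕ) : Ext (∐ fun _ : ℕ => Z) F n →+ (ℕ → Ext Z F n) :=
  AddMonoidHom.pi fun k => (Ext.mk₀ (Sigma.ι (fun _ : ℕ => Z) k)).precomp F (zero_add n)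

theorem extComp_apply {Z F : C} {n : ℕ} (x : Ext (∐ fun _ : ℕ => Z) F n) (k : ℕ) :
    extComp Z F n x k = (Ext.mk₀ (Sigma.ι (fun _ : ℕ => Z) k)).comp x (zero_add n) := rfl

theorem extComp_bijective [EnoughInjectives C] (Z : C) :
    ∀ (n : ℕ) (F : C), Function.Bijective (extComp Z F n) := by
  intro n
  induction n with
  | zero =>
    intro F
    refine ⟨(injective_iff_map_eq_zero _).2 fun x hx => ?_, fun y => ?_⟩
    · obtain ⟨a, rfl⟩ := (Ext.mk₀_bijective _ _).2 x
      have : a = 0 := Sigma.hom_ext _ _ fun k => by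
        refine (Ext.mk₀_bijective _ _).1 ?_
        rw [← Ext.mk₀_comp_mk₀, Limits.comp_zero, Ext.mk₀_zero]
        exact congrFun hx k
      rw [this, Ext.mk₀_zero]
    · choose a ha using fun k => (Ext.mk₀_bijective _ _).2 (y k)
      refine ⟨Ext.mk₀ (Sigma.desc a), funext fun k => ?_⟩
      rw [extComp_apply, Ext.mk₀_comp_mk₀, Sigma.ι_desc, ha]
  | succ n ih =>
    intro F
    let S : ShortComplex C := ShortComplex.mk (Injective.ι F) (Limits.cokernel.π (Injective.ι F)) (cokernel.condition _)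
    have hS : S.ShortExact := { exact := ShortComplex.exact_cokernel _ }
    refine ⟨(injective_iff_map_eq_zero _).2 fun x hx => ?_, fun y => ?_⟩
    · obtain ⟨y, rfl⟩ := Ext.covariant_sequence_exact₁ _ hS x (Ext.eq_zero_of_injective _) rfl
      have h1 : ∀ k, ∃ z, Ext.comp z (Ext.mk₀ S.g) (add_zero n) = extComp Z S.X₃ n y k := fun k => by
        refine Ext.covariant_sequence_exact₃ _ hS _ rfl ?_
        rw [extComp_apply, Ext.comp_assoc _ _ _ (zero_add n) rfl (by omega)]
        exact congrFun hx k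
      choose z hz using h1
      obtain ⟨z', hz'⟩ := (ih S.X₂).2 z
      have hy : y = z'.comp (Ext.mk₀ S.g) (add_zero n) := (ih S.X₃).1 (funext fun k => by
        rw [extComp_apply _ k, extComp_apply _ k, ← Ext.comp_assoc _ _ _ (zero_add n) (add_zero n) (by omega)]
        exact ((congrArg (fun t : ℕ → Ext Z S.X₂ n => (t k).comp (Ext.mk₀ S.g) (add_zero n)) hz').trans (hz k)).symm)
      rw [hy, Ext.comp_assoc _ _ _ (add_zero n) (zero_add 1) (by omega), hS.comp_extClass, Ext.comp_zero]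
    · choose b hb using fun k => Ext.covariant_sequence_exact₁ _ hS (y k) (Ext.eq_zero_of_injective _) rfl
      obtain ⟨b', hb'⟩ := (ih S.X₃).2 b
      refine ⟨b'.comp hS.extClass rfl, funext fun k => ?_⟩
      rw [extComp_apply, ← Ext.comp_assoc _ _ _ (zero_add n) rfl (by omega), ← extComp_apply, hb', hb]

theorem extComp_tel (f : Λ) {Z F : C} {n : ℕ} (x : Ext (∐ fun _ : ℕ => Z) F n) :
    extComp Z F n ((Ext.mk₀ (tel f Z)).comp x (zero_add n)) = delta (extSmul f Z F n) (extComp Z F n x) := by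
  funext k
  rw [delta_apply, extComp_apply, extComp_apply, extComp_apply, Ext.mk₀_comp_mk₀_assoc, ι_tel, extSmul_apply,
    Ext.mk₀_comp_mk₀_assoc, sub_eq_add_neg, Ext.mk₀_add, Ext.mk₀_neg, Ext.add_comp, Ext.neg_comp, ← sub_eq_add_neg]

/-- If `0 → ∐ Z → ∐ Z → L → 0` is exact, `Ext^*(L, F) = 0` iff all `Ext^n(Z, F)` are derived complete. -/
theorem subsingleton_ext_iff [EnoughInjectives C] (f : Λ) {Z L : C} (π : (∐ fun _ : ℕ => Z) ⟶ L)
    (w : tel f Z ≫ π = 0) (hS : (ShortComplex.mk (tel f Z) π w).ShortExact) (F : C) :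
    (∀ n, Subsingleton (Ext L F n)) ↔ ∀ n, DBij (extSmul f Z F n) := by
  let pre : ∀ n, Ext (∐ fun _ : ℕ => Z) F n →+ Ext (∐ fun _ : ℕ => Z) F n :=
    fun n => (Ext.mk₀ (tel f Z)).precomp F (zero_add n)
  have key : ∀ n, DBij (extSmul f Z F n) ↔ Function.Bijective (pre n) := fun n => by
    have hb := extComp_bijective Z n F
    have : delta (extSmul f Z F n) ∘ extComp Z F n = extComp Z F n ∘ pre n :=
      funext fun x => (extComp_tel f x).symm
    show Function.Bijective (delta (extSmul f Z F n)) ↔ _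
    rw [← Function.Bijective.of_comp_iff _ hb, this, Function.Bijective.of_comp_iff' hb]
  simp only [key]
  refine ⟨fun h n => ⟨(injective_iff_map_eq_zero _).2 fun x hx => ?_, fun x => ?_⟩, fun h n => ⟨fun a b => ?_⟩⟩
  · obtain ⟨x₃, rfl⟩ := Ext.contravariant_sequence_exact₂ hS F x hx
    rw [(h n).elim x₃ 0, Ext.comp_zero]
  · exact Ext.contravariant_sequence_exact₁ hS F x (Nat.add_comm 1 n) ((h (n + 1)).elim _ _)
  · suffices hz : ∀ x : Ext L F n, x = 0 from (hz a).trans (hz b).symm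
    intro x
    have h2 : (Ext.mk₀ π).comp x (zero_add n) = 0 := (h n).1 <| by
      rw [map_zero]
      show (Ext.mk₀ (tel f Z)).comp _ (zero_add n) = 0
      rw [Ext.mk₀_comp_mk₀_assoc, w, Ext.mk₀_zero, Ext.zero_comp]
    cases n with
    | zero =>
      haveI := hS.epi_g
      exact Ext.precomp_mk₀_injective_of_epi F π (h2.trans (Ext.comp_zero _ F 0 0 (zero_add 0)).symm)
    | succ m =>
      obtain ⟨x₁, rfl⟩ := Ext.contravariant_sequence_exact₃ hS F x h2 (Nat.add_comm 1 m)
      obtain ⟨x₂, rfl⟩ := (h m).2 x₁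
      exact hS.extClass_comp_assoc x₂ (h := Nat.add_comm 1 m)

end Groth.Agent.ProEtDCLib
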