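import Groth.Agent.ProEtDCLib.DBij
import Mathlib.CategoryTheory.Linear.Basic
import Mathlib.CategoryTheory.Preadditive.Projective.Basic
import Mathlib.CategoryTheory.Abelian.Basic
import Mathlib.CategoryTheory.Limits.Constructions.Filtered
import Mathlib.CategoryTheory.Abelian.GrothendieckAxioms.Colim
import Mathlib.CategoryTheory.Abelian.GrothendieckCategory.Basic
import Mathlib.Algebra.Homology.ShortComplex.ConcreteCategory
import Mathlib.CategoryTheory.Limits.ConcreteCategory.Basic
import Mathlib.CategoryTheory.Limits.Connected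

/-!
# Derived complete objects of a linear abelian category with enough projectives
-/

set_option autoImplicit false
set_option linter.style.haveILetI false
set_option backward.isDefEq.respectTransparency false
set_option backward.isDefEq.respectTransparency.types false

namespace Groth.Agent.ProEtDCLib

open CategoryTheory Limits

universe v u w

variable {Λ : Type w} [CommRing Λ] {C : Type u} [Category.{v} C] [Abelian C] [Linear Λ C]

/-- `φ ↦ (f • 𝟙) ≫ φ` on `Z ⟶ F`. -/
noncomputable def preSmul (f : Λ) (Z F : C) : (Z ⟶ F) →+ (Z ⟶ F) :=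
  Preadditive.leftComp F (f • 𝟙 Z)

theorem preSmul_apply (f : Λ) {Z F : C} (a : Z ⟶ F) : preSmul f Z F a = f • a := by
  show (f • 𝟙 Z) ≫ a = f • a
  rw [Linear.smul_comp, Category.id_comp]

/-- `F` is derived complete for `f`: `R lim (⋯ → F → F) = 0`, tested on projective objects. -/
def DCO (f : Λ) (F : C) : Prop := ∀ Q : C, Projective Q → DBij (preSmul f Q F)

theorem dco_of_pow_smul_id_eq_zero (f : Λ) (F : C) (N : ℕ) (h : f ^ N • 𝟙 F = 0) : DCO f F := by
  intro Q _
  refine dBij_of_iterate_eq_zero N fun a => ?_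
  have : ∀ k, (preSmul f Q F)^[k] a = f ^ k • a := fun k => by
    induction k with
    | zero => simp
    | succ k ih => rw [Function.iterate_succ_apply', ih, preSmul_apply, smul_smul, ← pow_succ']
  rw [this, ← Category.comp_id a, ← Linear.comp_smul, h, comp_zero]

theorem preSmul_rightComp (f : Λ) (Q : C) {F G : C} (g : F ⟶ G) (a : Q ⟶ F) :
    Preadditive.rightComp Q g (preSmul f Q F a) = preSmul f Q G (Preadditive.rightComp Q g a) :=
  Category.assoc _ _ _

theorem DCO.of_retract {f : Λ} {F G : C} (i : F ⟶ G) (p : G ⟶ F) (h : i ≫ p = 𝟙 F) (hG : DCO f G) :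
    DCO f F := fun Q hQ => (hG Q hQ).of_retract (Preadditive.rightComp Q i) (Preadditive.rightComp Q p)
  (fun a => show (a ≫ i) ≫ p = a by rw [Category.assoc, h, Category.comp_id])
  (preSmul_rightComp f Q i) (preSmul_rightComp f Q p)

theorem dco_of_iso {f : Λ} {F G : C} (e : F ≅ G) (hG : DCO f G) : DCO f F :=
  hG.of_retract e.hom e.inv e.hom_inv_id

theorem exact_rightComp_kernel (Q : C) {F G : C} (g : F ⟶ G) :
    Function.Exact (Preadditive.rightComp Q (kernel.ι g)) (Preadditive.rightComp Q g) := fun a =>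
  ⟨fun ha => ⟨kernel.lift g a ha, kernel.lift_ι g a ha⟩, by
    rintro ⟨b, rfl⟩
    show (b ≫ kernel.ι g) ≫ g = 0
    rw [Category.assoc, kernel.condition, comp_zero]⟩

theorem exact_rightComp_of_exact (Q : C) [Projective Q] {S : ShortComplex C} (hS : S.Exact) :
    Function.Exact (Preadditive.rightComp Q S.f) (Preadditive.rightComp Q S.g) := fun a =>
  ⟨fun ha => ⟨hS.liftFromProjective a ha, hS.liftFromProjective_comp a ha⟩, by
    rintro ⟨b, rfl⟩
    show (b ≫ S.f) ≫ S.g = 0
    rw [Category.assoc, S.zero, comp_zero]⟩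

theorem DCO.kernel {f : Λ} {F G : C} (g : F ⟶ G) (hF : DCO f F) (hG : DCO f G) :
    DCO f (Limits.kernel g) := fun Q hQ =>
  DBij.ker _ _ (preSmul_rightComp f Q _) (preSmul_rightComp f Q g)
    (fun _ _ h => (cancel_mono (kernel.ι g)).1 h) (exact_rightComp_kernel Q g) (hF Q hQ) (hG Q hQ)

theorem DCO.cokernel {f : Λ} {F G : C} (g : F ⟶ G) (hF : DCO f F) (hG : DCO f G) :
    DCO f (Limits.cokernel g) := fun Q hQ =>
  DBij.coker _ _ (preSmul_rightComp f Q g) (preSmul_rightComp f Q _)
    (fun a => ⟨Projective.factorThru a (cokernel.π g), Projective.factorThru_comp _ _⟩)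
    (exact_rightComp_of_exact Q (ShortComplex.exact_cokernel g)) (hF Q hQ) (hG Q hQ)

theorem DCO.extension {f : Λ} {S : ShortComplex C} (hS : S.ShortExact) (h1 : DCO f S.X₁) (h3 : DCO f S.X₃) :
    DCO f S.X₂ := fun Q hQ => by
  haveI := hS.mono_f
  haveI := hS.epi_g
  exact DBij.middle _ _ (preSmul_rightComp f Q _) (preSmul_rightComp f Q _)
    (fun _ _ h => (cancel_mono S.f).1 h)
    (fun a => ⟨Projective.factorThru a S.g, Projective.factorThru_comp _ _⟩)
    (exact_rightComp_of_exact Q hS.exact) (h1 Q hQ) (h3 Q hQ)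

/-- Limits. -/
theorem dco_limit {f : Λ} {J : Type*} [Category J] (D : J ⥤ C) [HasLimit D] (h : ∀ j, DCO f (D.obj j)) :
    DCO f (limit D) := by
  intro Q hQ
  refine dBij_mk (fun x hx => ?_) fun y => ?_
  · funext n
    refine limit.hom_ext (F := D) fun j => ?_
    have := congrFun ((h j Q hQ).eq_zero (x := fun n => x n ≫ limit.π D j) fun n => by
      rw [preSmul_apply, ← Linear.smul_comp, ← preSmul_apply, ← hx]) n
    exact this.trans (zero_comp (f := limit.π D j)).symm
  · choose x hx using fun j => (h j Q hQ).exists_solution fun n => y n ≫ limit.π D j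
    have hc : ∀ n {i j : J} (g : i ⟶ j), x i n ≫ D.map g = x j n := fun n i j g => by
      have := (h j Q hQ).eq_zero (x := fun n => x i n ≫ D.map g - x j n) fun n => by
        rw [preSmul_apply, smul_sub, ← Linear.smul_comp, ← preSmul_apply, ← preSmul_apply,
          ← sub_eq_zero, sub_sub_sub_comm, ← Preadditive.sub_comp, hx, hx, Category.assoc, limit.w, sub_self]
      exact sub_eq_zero.1 (congrFun this n)
    refine ⟨fun n => (limit.lift D ⟨Q, ⟨fun j => x j n, fun i j g => ?_⟩⟩ : Q ⟶ limit D), fun n => limit.hom_ext (F := D) fun j => ?_⟩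
    · exact (Category.id_comp _).trans (hc n g).symm
    · rw [Preadditive.sub_comp, preSmul_apply, Linear.smul_comp, limit.lift_π, limit.lift_π, ← preSmul_apply]
      exact hx j n

/-- In a category with exact filtered colimits the map from a coproduct to the product is a monomorphism. -/
theorem mono_sigma_to_pi {ι : Type} [HasColimitsOfShape (Finset (Discrete ι)) C]
    [HasExactColimitsOfShape (Finset (Discrete ι)) C] (Z : ι → C) [HasCoproduct Z] [HasProduct Z]
    (c : ∐ Z ⟶ ∏ᶜ Z) (h1 : ∀ i, Sigma.ι Z i ≫ c ≫ Pi.π Z i = 𝟙 (Z i))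
    (h0 : ∀ i j, i ≠ j → Sigma.ι Z i ≫ c ≫ Pi.π Z j = 0) : Mono c := by
  classical
  haveI : HasFiniteBiproducts C := HasFiniteBiproducts.of_hasFiniteProducts
  let X := CoproductsFromFiniteFiltered.liftToFinsetObj (Discrete.functor Z)
  haveI : IsConnected (Finset (Discrete ι)) := IsFiltered.isConnected _
  let φ : X ⟶ (Functor.const _).obj (∏ᶜ Z) :=
    { app := fun S => (CoproductsFromFiniteFiltered.finiteSubcoproductsCocone Z).ι.app S ≫ c
      naturality := fun S T g => by
        rw [← Category.assoc, Cocone.w]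
        exact (Category.comp_id _).symm }
  haveI hm : ∀ S, Mono (φ.app S) := fun S => by
    let r : ∏ᶜ Z ⟶ ⨁ (fun s : ↥S => Z s.1.as) := biproduct.lift fun s => Pi.π Z s.1.as
    have e : φ.app S ≫ r = (biproduct.isoCoproduct (fun s : ↥S => Z s.1.as)).inv := by
      refine Sigma.hom_ext _ _ fun s => biproduct.hom_ext _ _ fun t => ?_
      rw [biproduct.isoCoproduct_inv, Sigma.ι_desc]
      simp only [φ, r, Category.assoc, biproduct.lift_π,
        CoproductsFromFiniteFiltered.finiteSubcoproductsCocone_ι_app]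
      erw [Sigma.ι_desc_assoc]
      by_cases hst : s = t
      · subst hst
        rw [biproduct.ι_π_self]
        exact h1 _
      · rw [biproduct.ι_π_ne _ hst]
        exact h0 _ _ fun e => hst (Subtype.ext (Discrete.ext e))
    exact mono_of_mono_fac e
  haveI : Mono φ := NatTrans.mono_of_mono_app φ
  exact colim.map_mono' φ (CoproductsFromFiniteFiltered.isColimitFiniteSubproductsCocone Z)
    (isColimitConstCocone _ _) c fun S => (Category.comp_id _).symm

end Groth.Agent.ProEtDCLib
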