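import Mathlib.Algebra.Module.LinearMap.Basic
import Mathlib.Algebra.BigOperators.Fin
import Mathlib.LinearAlgebra.Quotient.Basic
import Mathlib.Algebra.Group.Hom.Instances
import Mathlib.Algebra.Exact.Basic
import Mathlib.Tactic.Abel

/-!
# The derived-completeness map of an endomorphism

For an endomorphism `φ` of an abelian group `M`, bijectivity of
`(x n) ↦ (x n - φ (x (n + 1)))` on `ℕ → M` says that `R lim (⋯ → M → M)` vanishes.
-/

set_option autoImplicit false

namespace Groth.Agent.ProEtDCLib

variable {A B C M : Type*} [AddCommGroup A] [AddCommGroup B] [AddCommGroup C] [AddCommGroup M]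

/-- The map `(x n) ↦ (x n - φ (x (n + 1)))`. -/
def delta (φ : M →+ M) : (ℕ → M) →+ (ℕ → M) where
  toFun x n := x n - φ (x (n + 1))
  map_zero' := by ext; simp
  map_add' x y := by ext; simp only [Pi.add_apply, map_add]; abel

@[simp] theorem delta_apply (φ : M →+ M) (x : ℕ → M) (n : ℕ) : delta φ x n = x n - φ (x (n + 1)) := rfl

/-- `φ` is derived complete. -/
def DBij (φ : M →+ M) : Prop := Function.Bijective (delta φ)

theorem delta_comm {φA : A →+ A} {φB : B →+ B} (g : A →+ B) (hg : ∀ a, g (φA a) = φB (g a))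
    (x : ℕ → A) : (fun n => g (delta φA x n)) = delta φB (fun n => g (x n)) := by
  ext n
  simp [hg]

theorem DBij.eq_zero {φ : M →+ M} (h : DBij φ) {x : ℕ → M} (hx : ∀ n, x n = φ (x (n + 1))) : x = 0 :=
  h.1 (by ext n; simp [← hx n])

theorem DBij.exists_solution {φ : M →+ M} (h : DBij φ) (y : ℕ → M) :
    ∃ x : ℕ → M, ∀ n, x n - φ (x (n + 1)) = y n :=
  (h.2 y).imp fun _ hx n => congrFun hx n

theorem dBij_mk {φ : M →+ M} (h1 : ∀ x : ℕ → M, (∀ n, x n = φ (x (n + 1))) → x = 0)
    (h2 : ∀ y : ℕ → M, ∃ x : ℕ → M, ∀ n, x n - φ (x (n + 1)) = y n) : DBij φ :=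
  ⟨(injective_iff_map_eq_zero _).2 fun x hx => h1 x fun n => sub_eq_zero.1 (congrFun hx n),
    fun y => (h2 y).imp fun _ hx => funext hx⟩

theorem dBij_of_subsingleton [Subsingleton M] (φ : M →+ M) : DBij φ :=
  ⟨fun _ _ _ => Subsingleton.elim _ _, fun y => ⟨0, Subsingleton.elim _ _⟩⟩

/-- Transport along a commuting bijection. -/
theorem DBij.of_bijective {φA : A →+ A} {φB : B →+ B} (g : A →+ B) (hb : Function.Bijective g)
    (hg : ∀ a, g (φA a) = φB (g a)) (h : DBij φA) : DBij φB := by
  refine dBij_mk (fun y hy => ?_) fun y => ?_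
  · choose x hx using fun n => hb.2 (y n)
    have : x = 0 := h.eq_zero fun n => hb.1 (by rw [hg, hx, hx]; exact hy n)
    ext n
    rw [← hx n, this]
    exact map_zero g
  · choose z hz using fun n => hb.2 (y n)
    obtain ⟨x, hx⟩ := h.exists_solution z
    exact ⟨fun n => g (x n), fun n => by rw [← hg, ← map_sub, hx, hz]⟩

theorem DBij.of_bijective' {φA : A →+ A} {φB : B →+ B} (g : A →+ B) (hb : Function.Bijective g)
    (hg : ∀ a, g (φA a) = φB (g a)) (h : DBij φB) : DBij φA := by
  let e := AddEquiv.ofBijective g hb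
  refine h.of_bijective e.symm.toAddMonoidHom e.symm.bijective fun b => e.injective ?_
  show e (e.symm (φB b)) = e (φA (e.symm b))
  rw [e.apply_symm_apply]
  exact (congrArg φB (e.apply_symm_apply b)).symm.trans (hg _).symm

/-- Retracts. -/
theorem DBij.of_retract {φA : A →+ A} {φB : B →+ B} (i : A →+ B) (p : B →+ A) (hip : ∀ a, p (i a) = a)
    (hi : ∀ a, i (φA a) = φB (i a)) (hp : ∀ b, p (φB b) = φA (p b)) (h : DBij φB) : DBij φA := by
  refine dBij_mk (fun x hx => ?_) fun y => ?_
  · have h0 : (fun n => i (x n)) = 0 := h.eq_zero fun n => by rw [← hi, ← hx]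
    ext n
    rw [← hip (x n)]
    exact (congrArg p (congrFun h0 n)).trans (map_zero p)
  · obtain ⟨x, hx⟩ := h.exists_solution fun n => i (y n)
    exact ⟨fun n => p (x n), fun n => by rw [← hp, ← map_sub, hx, hip]⟩

/-- Products. -/
theorem dBij_pi {ι : Type*} {N : ι → Type*} [∀ i, AddCommGroup (N i)] {φ : ∀ i, N i →+ N i}
    {ψ : (∀ i, N i) →+ (∀ i, N i)} (hψ : ∀ x i, ψ x i = φ i (x i)) (h : ∀ i, DBij (φ i)) : DBij ψ := by
  refine dBij_mk (fun x hx => ?_) fun y => ?_
  · ext n i
    refine congrFun ((h i).eq_zero (x := fun n => x n i) fun n => ?_) n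
    rw [← hψ]
    exact congrFun (hx n) i
  · choose x hx using fun i => (h i).exists_solution fun n => y n i
    refine ⟨fun n i => x i n, fun n => funext fun i => ?_⟩
    rw [Pi.sub_apply, hψ]
    exact hx i n

/-- Kernels. -/
theorem DBij.ker {φA : A →+ A} {φB : B →+ B} {φC : C →+ C} (i : A →+ B) (p : B →+ C)
    (hi : ∀ a, i (φA a) = φB (i a)) (hp : ∀ b, p (φB b) = φC (p b)) (hinj : Function.Injective i)
    (hex : Function.Exact i p) (hB : DBij φB) (hC : DBij φC) : DBij φA := by
  refine dBij_mk (fun x hx => ?_) fun y => ?_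
  · have h0 : (fun n => i (x n)) = 0 := hB.eq_zero fun n => by rw [← hi, ← hx]
    ext n
    exact hinj ((congrFun h0 n).trans (map_zero i).symm)
  · obtain ⟨x, hx⟩ := hB.exists_solution fun n => i (y n)
    have h0 : (fun n => p (x n)) = 0 := hC.eq_zero fun n => by
      rw [← hp]
      exact sub_eq_zero.1 (by rw [← map_sub, hx, hex.apply_apply_eq_zero])
    choose a ha using fun n => (hex (x n)).1 (congrFun h0 n)
    exact ⟨a, fun n => hinj (by rw [map_sub, hi, ha, ha, hx])⟩

/-- Cokernels. -/
theorem DBij.coker {φA : A →+ A} {φB : B →+ B} {φC : C →+ C} (i : A →+ B) (p : B →+ C)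
    (hi : ∀ a, i (φA a) = φB (i a)) (hp : ∀ b, p (φB b) = φC (p b)) (hsurj : Function.Surjective p)
    (hex : Function.Exact i p) (hA : DBij φA) (hB : DBij φB) : DBij φC := by
  refine dBij_mk (fun x hx => ?_) fun y => ?_
  · choose x' hx' using fun n => hsurj (x n)
    choose a ha using fun n => (hex (x' n - φB (x' (n + 1)))).1
      (by rw [map_sub, hp, hx', hx', ← hx, sub_self])
    obtain ⟨a', ha'⟩ := hA.exists_solution a
    have h0 : (fun n => x' n - i (a' n)) = 0 := hB.eq_zero fun n => by
      rw [map_sub φB, ← hi]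
      have h1 := ha n
      rw [← ha' n, map_sub] at h1
      rw [sub_eq_sub_iff_sub_eq_sub]
      exact h1.symm
    ext n
    have h2 : x' n = i (a' n) := sub_eq_zero.1 (congrFun h0 n)
    rw [← hx' n, h2, hex.apply_apply_eq_zero]
    rfl
  · choose y' hy' using fun n => hsurj (y n)
    obtain ⟨x, hx⟩ := hB.exists_solution y'
    exact ⟨fun n => p (x n), fun n => by rw [← hp, ← map_sub, hx, hy']⟩

/-- Extensions. -/
theorem DBij.middle {φA : A →+ A} {φB : B →+ B} {φC : C →+ C} (i : A →+ B) (p : B →+ C)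
    (hi : ∀ a, i (φA a) = φB (i a)) (hp : ∀ b, p (φB b) = φC (p b)) (hinj : Function.Injective i)
    (hsurj : Function.Surjective p)
    (hex : Function.Exact i p) (hA : DBij φA) (hC : DBij φC) : DBij φB := by
  refine dBij_mk (fun x hx => ?_) fun y => ?_
  · have h0 : (fun n => p (x n)) = 0 := hC.eq_zero fun n => by rw [← hp, ← hx]
    choose a ha using fun n => (hex (x n)).1 (congrFun h0 n)
    have h1 : a = 0 := hA.eq_zero fun n => hinj (by rw [hi, ha, ha, ← hx])
    ext n
    rw [← ha n, h1]
    exact map_zero i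
  · obtain ⟨c, hc⟩ := hC.exists_solution fun n => p (y n)
    choose x' hx' using fun n => hsurj (c n)
    choose a ha using fun n => (hex (y n - (x' n - φB (x' (n + 1))))).1
      (by rw [map_sub, map_sub, hp, hx', hx', hc, sub_self])
    obtain ⟨a', ha'⟩ := hA.exists_solution a
    refine ⟨fun n => x' n + i (a' n), fun n => ?_⟩
    have h1 := ha n
    rw [← ha' n, map_sub, hi] at h1
    rw [map_add, add_sub_add_comm, h1]
    abel

/-- A nilpotent endomorphism is derived complete. -/
theorem dBij_of_iterate_eq_zero {φ : M →+ M} (N : ℕ) (h : ∀ x, φ^[N] x = 0) : DBij φ := by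
  have key : ∀ (x : ℕ → M) (k n : ℕ), (∀ n, x n = φ (x (n + 1))) → x n = φ^[k] (x (n + k)) := by
    intro x k
    induction k with
    | zero => intro n _; rfl
    | succ k ih =>
      intro n hx
      rw [ih n hx, hx (n + k), Function.iterate_succ_apply]
      rfl
  refine dBij_mk (fun x hx => funext fun n => (key x N n hx).trans (h _)) fun y => ?_
  refine ⟨fun n => ∑ k ∈ Finset.range N, φ^[k] (y (n + k)), fun n => ?_⟩
  rw [map_sum]
  have h1 : ∀ k ∈ Finset.range N, φ (φ^[k] (y (n + 1 + k))) = φ^[k + 1] (y (n + (k + 1))) := fun k _ => by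
    rw [Function.iterate_succ_apply', add_assoc, add_comm 1 k]
  rw [Finset.sum_congr rfl h1, ← Finset.sum_sub_distrib,
    Finset.sum_range_sub' (fun k => φ^[k] (y (n + k))), h, sub_zero]
  rfl

/-- A derived complete surjective endomorphism only exists on the trivial group. -/
theorem DBij.subsingleton_of_surjective {φ : M →+ M} (h : DBij φ) (hs : Function.Surjective φ) :
    Subsingleton M := by
  choose g hg using hs
  refine ⟨fun a b => sub_eq_zero.1 ?_⟩
  have h0 : (fun n => g^[n] (a - b)) = 0 := h.eq_zero fun n => by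
    rw [Function.iterate_succ_apply', hg]
  exact congrFun h0 0

end Groth.Agent.ProEtDCLib

namespace Groth.Agent.ProEtDCLib

universe v w

/-- Multiplication by a scalar. -/
def smulEnd {R : Type v} (M : Type w) [CommRing R] [AddCommGroup M] [Module R M] (a : R) : M →+ M :=
  DistribSMul.toAddMonoidHom M a

@[simp] theorem smulEnd_apply {R : Type v} (M : Type w) [CommRing R] [AddCommGroup M] [Module R M] (a : R) (x : M) :
    smulEnd M a x = a • x := rfl

/-- Derived Nakayama for finitely many scalars. -/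
theorem subsingleton_of_dBij_of_eq_sum {R : Type v} [CommRing R] :
    ∀ {r : ℕ} (a : Fin r → R) (M : Type w) [AddCommGroup M] [Module R M],
      (∀ k, DBij (smulEnd M (a k))) → (∀ x : M, ∃ c : Fin r → M, ∑ k, a k • c k = x) → Subsingleton M := by
  intro r
  induction r with
  | zero =>
    intro a M _ _ _ h
    refine ⟨fun x y => ?_⟩
    obtain ⟨c, rfl⟩ := h x
    obtain ⟨d, rfl⟩ := h y
    simp
  | succ r ih =>
    intro a M _ _ hD h
    let L : M →ₗ[R] M := a (Fin.last r) • LinearMap.id
    let p := L.range.mkQ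
    have hsub : Subsingleton (M ⧸ L.range) := by
      refine ih (a ∘ Fin.castSucc) (M ⧸ L.range) (fun k => ?_) fun x => ?_
      · refine DBij.coker L.toAddMonoidHom p.toAddMonoidHom (fun m => L.map_smul _ m) (fun m => p.map_smul _ m)
          (Submodule.mkQ_surjective _) ?_ (hD k.castSucc) (hD k.castSucc)
        intro m
        exact (Submodule.Quotient.mk_eq_zero _).trans Iff.rfl
      · obtain ⟨m, rfl⟩ := Submodule.mkQ_surjective _ x
        obtain ⟨c, rfl⟩ := h m
        refine ⟨fun k => p (c k.castSucc), ?_⟩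
        rw [Fin.sum_univ_castSucc, map_add, map_sum]
        have : p (a (Fin.last r) • c (Fin.last r)) = 0 :=
          (Submodule.Quotient.mk_eq_zero _).2 ⟨c (Fin.last r), rfl⟩
        rw [this, add_zero]
        exact Finset.sum_congr rfl fun k _ => (map_smul p _ _).symm
    refine (hD (Fin.last r)).subsingleton_of_surjective fun m => ?_
    obtain ⟨y, hy⟩ := (Submodule.Quotient.mk_eq_zero _).1 (hsub.elim (p m) 0)
    exact ⟨y, hy⟩

end Groth.Agent.ProEtDCLib
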