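import Groth.Agent.ProEtDCLib.ExtDC
import Groth.Agent.KInj.Main
import Groth.Agent.KInj.Derived
import Mathlib.Algebra.Homology.DerivedCategory.SingleTriangle
import Mathlib.Algebra.Homology.DerivedCategory.FullyFaithful
import Mathlib.Algebra.Homology.Refinements
import Mathlib.Algebra.Homology.GrothendieckAbelian

/-!
# Derived completeness in the derived category
-/

set_option autoImplicit false
set_option linter.style.haveILetI false
set_option backward.isDefEq.respectTransparency false
set_option backward.isDefEq.respectTransparency.types false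

namespace Groth.Agent.ProEtDCLib

open CategoryTheory Limits Pretriangulated

section Triangle

universe v u

variable {T : Type u} [Category.{v} T] [HasZeroObject T] [HasShift T ℤ] [Preadditive T]
  [∀ n : ℤ, (shiftFunctor T n).Additive] [Pretriangulated T]

theorem subsingleton_shift_src (X K : T) (n : ℤ) (h : Subsingleton (X ⟶ K⟦n + 1⟧)) :
    Subsingleton (X⟦(-1 : ℤ)⟧ ⟶ K⟦n⟧) := by
  refine ⟨fun a b => (shiftFunctor T (1 : ℤ)).map_injective ?_⟩
  let e1 := (shiftFunctorCompIsoId T (-1 : ℤ) 1 (by omega)).app X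
  let e2 := (shiftFunctorAdd' T n 1 (n + 1) rfl).app K
  have := h.elim (e1.inv ≫ a⟦(1 : ℤ)⟧' ≫ e2.inv) (e1.inv ≫ b⟦(1 : ℤ)⟧' ≫ e2.inv)
  exact (cancel_mono e2.inv).1 ((cancel_epi e1.inv).1 this)

/-- Orthogonality of the third object of a triangle, read off from the first map. -/
theorem subsingleton_hom₃_iff {S : Triangle T} (hS : S ∈ distTriang T) (K : T) :
    (∀ n : ℤ, Subsingleton (S.obj₃ ⟶ K⟦n⟧)) ↔
      ∀ n : ℤ, Function.Bijective (fun x : S.obj₂ ⟶ K⟦n⟧ => S.mor₁ ≫ x) := by
  constructor
  · intro h n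
    refine ⟨fun a b hab => sub_eq_zero.1 ?_, fun y => ?_⟩
    · obtain ⟨g, hg⟩ := S.yoneda_exact₂ hS (a - b) (by
        rw [Preadditive.comp_sub, sub_eq_zero]; exact hab)
      rw [hg, (h n).elim g 0, comp_zero]
    · obtain ⟨g, hg⟩ := Triangle.yoneda_exact₂ S.invRotate (inv_rot_of_distTriang S hS) y
        ((subsingleton_shift_src S.obj₃ K n (h (n + 1))).elim _ _)
      exact ⟨g, hg.symm⟩
  · intro h n
    suffices hz : ∀ x : S.obj₃ ⟶ K⟦n⟧, x = 0 from ⟨fun a b => (hz a).trans (hz b).symm⟩
    intro x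
    have h2 : S.mor₂ ≫ x = 0 := (h n).1 (by
      show S.mor₁ ≫ S.mor₂ ≫ x = S.mor₁ ≫ 0
      rw [comp_zero, ← Category.assoc, comp_distTriang_mor_zero₁₂ S hS, zero_comp])
    obtain ⟨g, rfl⟩ := S.yoneda_exact₃ hS x h2
    let e := (shiftFunctorAdd' T (n - 1) 1 n (by omega)).app K
    obtain ⟨g₀, hg₀⟩ := (shiftFunctor T (1 : ℤ)).map_surjective (g ≫ e.hom)
    obtain ⟨y, hy⟩ := (h (n - 1)).2 g₀
    have h3 : S.mor₃ ≫ (g ≫ e.hom) = 0 := by
      rw [← hg₀, ← hy, Functor.map_comp, ← Category.assoc, comp_distTriang_mor_zero₃₁ S hS, zero_comp]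
    refine (cancel_mono e.hom).1 ?_
    rw [Category.assoc, h3, zero_comp]

end Triangle

universe w' v u w

variable {Λ : Type w} [CommRing Λ] {C : Type u} [Category.{v} C] [Abelian C] [Linear Λ C]

section PiN

variable [HasLimitsOfShape (Discrete ℕ) C]

/-- Countable powers. -/
noncomputable def piN : C ⥤ C := Functor.const (Discrete ℕ) ⋙ lim

/-- The projections. -/
noncomputable def piNπ (n : ℕ) : piN ⟶ 𝟭 C where
  app F := limit.π ((Functor.const (Discrete ℕ)).obj F) ⟨n⟩
  naturality F G g := limMap_π _ _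

noncomputable def piNLift {W F : C} (a : ℕ → (W ⟶ F)) : W ⟶ piN.obj F :=
  limit.lift ((Functor.const (Discrete ℕ)).obj F) ⟨W, Discrete.natTrans fun i => a i.as⟩

theorem piNLift_π {W F : C} (a : ℕ → (W ⟶ F)) (n : ℕ) : piNLift a ≫ (piNπ n).app F = a n :=
  limit.lift_π _ _

theorem piN_hom_ext {W F : C} {a b : W ⟶ piN.obj F} (h : ∀ n, a ≫ (piNπ n).app F = b ≫ (piNπ n).app F) :
    a = b :=
  limit.hom_ext (F := (Functor.const (Discrete ℕ)).obj F) fun i => h i.as

instance : (piN (C := C)).Additive where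
  map_add {F G a b} := piN_hom_ext fun n => by
    rw [Preadditive.add_comp, (piNπ n).naturality, (piNπ n).naturality, (piNπ n).naturality, ← Preadditive.comp_add]
    rfl

instance : PreservesLimitsOfShape WalkingParallelPair (piN (C := C)) := by
  unfold piN
  infer_instance

/-- The telescope endomorphism of countable powers. -/
noncomputable def deltaNat (f : Λ) : piN (C := C) ⟶ piN where
  app F := piNLift fun n => (piNπ n).app F - f • (piNπ (n + 1)).app F
  naturality F G g := piN_hom_ext fun n => by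
    rw [Category.assoc, piNLift_π, Category.assoc, (piNπ n).naturality, ← Category.assoc, piNLift_π,
      Preadditive.comp_sub, Linear.comp_smul, (piNπ n).naturality, (piNπ (n + 1)).naturality, Preadditive.sub_comp,
      Linear.smul_comp]

theorem deltaNat_π (f : Λ) (F : C) (n : ℕ) :
    (deltaNat f).app F ≫ (piNπ n).app F = (piNπ n).app F - f • (piNπ (n + 1)).app F :=
  piNLift_π (fun k => (piNπ k).app F - f • (piNπ (k + 1)).app F) n

variable [EnoughProjectives C]

instance : (piN (C := C)).PreservesEpimorphisms where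
  preserves {F G} g _ := by
    let t : Projective.over (piN.obj G) ⟶ piN.obj F :=
      piNLift fun n => Projective.factorThru (Projective.π (piN.obj G) ≫ (piNπ n).app G) g
    have ht : t ≫ piN.map g = Projective.π (piN.obj G) := piN_hom_ext fun n => by
      rw [Category.assoc, (piNπ n).naturality, ← Category.assoc, piNLift_π]
      exact Projective.factorThru_comp _ _
    exact epi_of_epi_fac ht

instance : (piN (C := C)).PreservesHomology :=
  Functor.preservesHomology_of_preservesEpis_and_kernels _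

/-- On derived complete objects the telescope endomorphism is invertible. -/
theorem isIso_deltaNat {f : Λ} {F : C} (h : DCO f F) : IsIso ((deltaNat f).app F) := by
  have key : ∀ (Q : C) [Projective Q] (a : Q ⟶ piN.obj F),
      delta (preSmul f Q F) (fun n => a ≫ (piNπ n).app F) = fun n => (a ≫ (deltaNat f).app F) ≫ (piNπ n).app F :=
    fun Q _ a => funext fun n => by
      rw [delta_apply, preSmul_apply, Category.assoc, deltaNat_π, Preadditive.comp_sub, Linear.comp_smul]
  haveI : Mono ((deltaNat f).app F) := Preadditive.mono_of_cancel_zero _ fun {W} a ha => by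
    refine (cancel_epi (Projective.π W)).1 (piN_hom_ext fun n => ?_)
    have h0 : delta (preSmul f _ F) (fun n => (Projective.π W ≫ a) ≫ (piNπ n).app F) = 0 := by
      rw [key]
      funext n
      rw [Category.assoc (Projective.π W) a, ha, comp_zero, zero_comp]
      rfl
    rw [comp_zero, zero_comp]
    exact congrFun ((h _ inferInstance).1 (h0.trans (map_zero _).symm)) n
  haveI : Epi ((deltaNat f).app F) := by
    obtain ⟨x, hx⟩ := (h _ inferInstance).exists_solution fun n => Projective.π (piN.obj F) ≫ (piNπ n).app F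
    have : piNLift x ≫ (deltaNat f).app F = Projective.π (piN.obj F) := piN_hom_ext fun n => by
      rw [Category.assoc, deltaNat_π, Preadditive.comp_sub, Linear.comp_smul, piNLift_π, piNLift_π, ← preSmul_apply]
      exact hx n
    exact epi_of_epi_fac this
  exact isIso_of_mono_of_epi _

/-- The power complex. -/
noncomputable abbrev piCx (J : CochainComplex C ℤ) : CochainComplex C ℤ :=
  ((piN (C := C)).mapHomologicalComplex _).obj J

noncomputable abbrev piCxπ (J : CochainComplex C ℤ) (n : ℕ) : piCx J ⟶ J :=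
  (NatTrans.mapHomologicalComplex (piNπ n) (ComplexShape.up ℤ)).app J ≫
    (Functor.mapHomologicalComplexIdIso C (ComplexShape.up ℤ)).hom.app J

omit [EnoughProjectives C] in
theorem piCxπ_f (J : CochainComplex C ℤ) (n : ℕ) (i : ℤ) : (piCxπ J n).f i = (piNπ n).app (J.X i) :=
  Category.comp_id _

omit [EnoughProjectives C] in
instance isKInjective_piCx (J : CochainComplex C ℤ) [J.IsKInjective] : (piCx J).IsKInjective where
  nonempty_homotopy_zero {L} f hL := by
    let h : ∀ n : ℕ, Homotopy (f ≫ piCxπ J n) 0 := fun n => CochainComplex.IsKInjective.homotopyZero _ hL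
    refine ⟨{ hom := fun i j => piNLift fun n => (h n).hom i j
              zero := fun i j hij => piN_hom_ext fun n => ?_
              comm := fun i => piN_hom_ext fun n => ?_ }⟩
    · rw [piNLift_π, (h n).zero i j hij, zero_comp]
    · have h0 := (h n).comm i
      rw [HomologicalComplex.comp_f, piCxπ_f, HomologicalComplex.zero_f, add_zero] at h0
      rw [HomologicalComplex.zero_f, add_zero, h0, dNext_eq _ (show (ComplexShape.up ℤ).Rel i (i + 1) from rfl),
        prevD_eq _ (show (ComplexShape.up ℤ).Rel (i - 1) i by simp),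
        dNext_eq _ (show (ComplexShape.up ℤ).Rel i (i + 1) from rfl),
        prevD_eq _ (show (ComplexShape.up ℤ).Rel (i - 1) i by simp)]
      rw [Preadditive.add_comp, Category.assoc, piNLift_π, Category.assoc]
      congr 1
      show (h n).hom i (i - 1) ≫ J.d (i - 1) i = piNLift _ ≫ piN.map (J.d (i - 1) i) ≫ (piNπ n).app (J.X i)
      exact ((congrArg (piNLift (fun n => (h n).hom i (i - 1)) ≫ ·) ((piNπ n).naturality (J.d (i - 1) i))).trans
        ((Category.assoc _ _ _).symm.trans
          (congrArg (· ≫ J.d (i - 1) i) (piNLift_π (fun n => (h n).hom i (i - 1)) n)))).symm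

theorem quasiIso_deltaCx {f : Λ} (J : CochainComplex C ℤ) (h : ∀ m : ℤ, DCO f (J.homology m)) :
    QuasiIso ((NatTrans.mapHomologicalComplex (deltaNat f) (ComplexShape.up ℤ)).app J) where
  quasiIsoAt m := by
    rw [quasiIsoAt_iff_isIso_homologyMap]
    haveI := isIso_deltaNat (h m)
    have e := NatTrans.app_homology (deltaNat (C := C) f) (J.sc m)
    haveI : IsIso ((deltaNat f).app (J.sc m).homology) := isIso_deltaNat (h m)
    show IsIso (ShortComplex.homologyMap ((J.sc m).mapNatTrans (deltaNat f)))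
    have e' : ShortComplex.homologyMap ((J.sc m).mapNatTrans (deltaNat f)) =
        ((J.sc m).mapHomologyIso piN).hom ≫ (deltaNat f).app (J.sc m).homology ≫
          ((J.sc m).mapHomologyIso piN).inv := by
      rw [e]; simp
    rw [e']
    infer_instance

end PiN

section Cycles

variable [HasDerivedCategory.{w'} C]

open DerivedCategory

theorem singleFunctor_map_eq {A B : C} (g : A ⟶ B) :
    (singleFunctor C 0).map g = Q.map ((HomologicalComplex.single C (ComplexShape.up ℤ) 0).map g) := by
  have h := ((SingleFunctors.evaluation _ _ 0).mapIso (singleFunctorsPostcompQIso C)).hom.naturality g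
  simp only [Functor.mapIso_hom, SingleFunctors.evaluation_map, singleFunctorsPostcompQIso_hom_hom,
    SingleFunctors.evaluation_obj] at h
  erw [Category.comp_id, Category.id_comp] at h
  exact h

/-- The morphism in the derived category of a degree-zero cocycle. -/
noncomputable def cyc {A : C} {J : CochainComplex C ℤ} (φ : A ⟶ J.X 0) (hφ : φ ≫ J.d 0 1 = 0) :
    (singleFunctor C 0).obj A ⟶ Q.obj J :=
  Q.map (HomologicalComplex.mkHomFromSingle φ fun k hk => by
    obtain rfl : (0 : ℤ) + 1 = k := hk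
    exact hφ)

theorem cyc_congr {A : C} {J : CochainComplex C ℤ} {φ ψ : A ⟶ J.X 0} (h : φ = ψ) (hφ : φ ≫ J.d 0 1 = 0) :
    cyc φ hφ = cyc ψ (h ▸ hφ) := by
  subst h; rfl

theorem single_map_comp_cyc {A B : C} (g : A ⟶ B) {J : CochainComplex C ℤ} (φ : B ⟶ J.X 0)
    (hφ : φ ≫ J.d 0 1 = 0) :
    (singleFunctor C 0).map g ≫ cyc φ hφ = cyc (g ≫ φ) (by rw [Category.assoc, hφ, comp_zero]) := by
  rw [singleFunctor_map_eq]
  refine (Q.map_comp _ _).symm.trans (congrArg Q.map (HomologicalComplex.from_single_hom_ext ?_))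
  simp [HomologicalComplex.single_map_f_self]

theorem cyc_comp {A : C} {J J' : CochainComplex C ℤ} (φ : A ⟶ J.X 0) (hφ : φ ≫ J.d 0 1 = 0) (g : J ⟶ J') :
    cyc φ hφ ≫ Q.map g = cyc (φ ≫ g.f 0) (by rw [Category.assoc, g.comm, ← Category.assoc, hφ, zero_comp]) := by
  refine (Q.map_comp _ _).symm.trans (congrArg Q.map (HomologicalComplex.from_single_hom_ext ?_))
  simp

theorem cyc_add {A : C} {J : CochainComplex C ℤ} (φ ψ : A ⟶ J.X 0) (hφ : φ ≫ J.d 0 1 = 0) (hψ : ψ ≫ J.d 0 1 = 0) :
    cyc (φ + ψ) (by rw [Preadditive.add_comp, hφ, hψ, add_zero]) = cyc φ hφ + cyc ψ hψ := by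
  unfold cyc
  rw [← Functor.map_add]
  refine congrArg Q.map (HomologicalComplex.from_single_hom_ext ?_)
  simp

theorem cyc_surjective {A : C} {J : CochainComplex C ℤ} [J.IsKInjective]
    (x : (singleFunctor C 0).obj A ⟶ Q.obj J) : ∃ (φ : A ⟶ J.X 0) (hφ : φ ≫ J.d 0 1 = 0), cyc φ hφ = x := by
  let e := quotientCompQhIso C
  obtain ⟨b, hb⟩ := (CochainComplex.IsKInjective.Qh_map_bijective
    ((HomotopyCategory.quotient _ _).obj ((HomologicalComplex.single C (ComplexShape.up ℤ) 0).obj A)) J).surjective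
      (e.hom.app _ ≫ x ≫ e.inv.app J)
  obtain ⟨a, rfl⟩ := (HomotopyCategory.quotient _ _).map_surjective b
  have n := e.hom.naturality a
  dsimp at n
  rw [hb] at n
  simp only [Category.assoc, Iso.inv_hom_id_app] at n
  have hx : Q.map a = x := (cancel_epi (e.hom.app _)).1 (n.symm.trans (congrArg (e.hom.app _ ≫ ·) (Category.comp_id x)))
  refine ⟨(HomologicalComplex.singleObjXSelf (ComplexShape.up ℤ) 0 A).inv ≫ a.f 0, ?_, ?_⟩
  · rw [Category.assoc, a.comm, HomologicalComplex.single_obj_d, zero_comp, comp_zero]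
  · rw [← hx]
    refine congrArg Q.map (HomologicalComplex.from_single_hom_ext ?_)
    simp

theorem cyc_eq_zero_iff {A : C} {J : CochainComplex C ℤ} [J.IsKInjective] (φ : A ⟶ J.X 0) (hφ : φ ≫ J.d 0 1 = 0) :
    cyc φ hφ = 0 ↔ ∃ h : A ⟶ J.X (-1), h ≫ J.d (-1) 0 = φ := by
  let a : (HomologicalComplex.single C (ComplexShape.up ℤ) 0).obj A ⟶ J :=
    HomologicalComplex.mkHomFromSingle φ fun k hk => by
      obtain rfl : (0 : ℤ) + 1 = k := hk
      exact hφ
  let e := quotientCompQhIso C
  have key : Q.map a = 0 ↔ Nonempty (Homotopy a 0) := by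
    rw [← HomotopyCategory.quotient_map_eq_zero_iff]
    have n := e.hom.naturality a
    dsimp at n
    constructor
    · intro h
      refine (CochainComplex.IsKInjective.Qh_map_bijective _ J).injective ?_
      rw [h, comp_zero] at n
      rw [Functor.map_zero, ← cancel_mono (e.hom.app J), zero_comp]
      exact n
    · intro h
      rw [h, Functor.map_zero, zero_comp] at n
      exact (cancel_epi (e.hom.app _)).1 (n.symm.trans comp_zero.symm)
  refine key.trans ⟨?_, ?_⟩
  · rintro ⟨H⟩
    refine ⟨(HomologicalComplex.singleObjXSelf (ComplexShape.up ℤ) 0 A).inv ≫ H.hom 0 (-1), ?_⟩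
    have h0 := H.comm 0
    rw [HomologicalComplex.zero_f, add_zero, dNext_eq _ (show (ComplexShape.up ℤ).Rel 0 1 by simp),
      prevD_eq _ (show (ComplexShape.up ℤ).Rel (-1) 0 by simp), HomologicalComplex.single_obj_d, zero_comp,
      zero_add] at h0
    rw [Category.assoc, ← h0]
    simp [a]
  · rintro ⟨h, hh⟩
    refine ⟨{ hom := fun i j =>
                if hi : i = 0 then if hj : j = -1 then
                  (HomologicalComplex.singleObjXIsoOfEq (ComplexShape.up ℤ) 0 A i hi).hom ≫ h ≫
                    (J.XIsoOfEq hj).inv else 0 else 0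
              zero := fun i j hij => ?_
              comm := fun i => ?_ }⟩
    · simp only [ComplexShape.up_Rel] at hij
      split_ifs with hi hj
      · omega
      · rfl
      · rfl
    · rw [HomologicalComplex.zero_f, add_zero]
      by_cases hi : i = 0
      · subst hi
        rw [dNext_eq _ (show (ComplexShape.up ℤ).Rel 0 1 by simp),
          prevD_eq _ (show (ComplexShape.up ℤ).Rel (-1) 0 by simp)]
        simp [a, hh]
        rfl
      · exact (HomologicalComplex.isZero_single_obj_X _ 0 A i hi).eq_of_src _ _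

/-- The map to homology. -/
noncomputable def hMap (A : C) (M : DerivedCategory C) :
    ((singleFunctor C 0).obj A ⟶ M) → (A ⟶ (homologyFunctor C 0).obj M) :=
  fun x => (singleFunctorCompHomologyFunctorIso C 0).inv.app A ≫ (homologyFunctor C 0).map x

theorem hMap_cyc {A : C} {J : CochainComplex C ℤ} (φ : A ⟶ J.X 0) (hφ : φ ≫ J.d 0 1 = 0) :
    hMap A _ (cyc φ hφ) ≫ (homologyFunctorFactors C 0).hom.app J =
      J.liftCycles φ 1 (by simp) hφ ≫ J.homologyπ 0 := by
  unfold hMap cyc
  rw [Category.assoc]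
  erw [homologyFunctorFactors_hom_naturality]
  simp only [singleFunctorCompHomologyFunctorIso, Iso.trans_inv, NatTrans.comp_app, Functor.isoWhiskerRight_inv,
    Functor.isoWhiskerLeft_inv, Functor.whiskerRight_app, Functor.whiskerLeft_app, Functor.associator_inv_app,
    Functor.mapIso_inv, SingleFunctors.evaluation_map, singleFunctorsPostcompQIso_inv_hom]
  erw [CategoryTheory.Functor.map_id, Category.comp_id, Category.comp_id, Category.assoc]
  erw [Iso.inv_hom_id_app_assoc]
  rw [HomologicalComplex.homologyFunctorSingleIso_inv_app, ← HomologicalComplex.singleObjCyclesSelfIso_inv_homologyπ,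
    Category.assoc, HomologicalComplex.homologyπ_naturality, ← Category.assoc]
  congr 1
  rw [← cancel_mono (J.iCycles 0), Category.assoc, HomologicalComplex.cyclesMap_i, HomologicalComplex.liftCycles_i]
  simp

theorem hMap_bijective_of_projective (Q₀ : C) [Projective Q₀] (J : CochainComplex C ℤ) [J.IsKInjective] :
    Function.Bijective (hMap Q₀ (Q.obj J)) := by
  let e := (homologyFunctorFactors C 0).app J
  refine ⟨fun x y hxy => ?_, fun η => ?_⟩
  · obtain ⟨φ, hφ, rfl⟩ := cyc_surjective x
    obtain ⟨ψ, hψ, rfl⟩ := cyc_surjective y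
    have h0 : (φ - ψ) ≫ J.d 0 1 = 0 := by rw [Preadditive.sub_comp, hφ, hψ, sub_zero]
    have he : cyc φ hφ = cyc (φ - ψ) h0 + cyc ψ hψ :=
      (cyc_congr (sub_add_cancel φ ψ).symm hφ).trans (cyc_add _ _ h0 hψ)
    suffices cyc (φ - ψ) h0 = 0 by rw [he, this, zero_add]
    rw [cyc_eq_zero_iff]
    have h1 : hMap Q₀ _ (cyc (φ - ψ) h0) = 0 := by
      have h2 : hMap Q₀ (Q.obj J) (cyc φ hφ) = hMap Q₀ _ (cyc (φ - ψ) h0) + hMap Q₀ _ (cyc ψ hψ) := by
        rw [he]
        unfold hMap
        rw [Functor.map_add, Preadditive.comp_add]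
      rw [hxy] at h2
      exact right_eq_add.1 h2
    have h3 := hMap_cyc (φ - ψ) h0
    rw [h1, zero_comp] at h3
    have hex : (ShortComplex.mk (J.toCycles (-1) 0) (J.homologyπ 0) (J.toCycles_comp_homologyπ _ _)).Exact :=
      ShortComplex.exact_of_g_is_cokernel _ (J.homologyIsCokernel (-1) 0 (by simp))
    refine ⟨hex.liftFromProjective (J.liftCycles (φ - ψ) 1 (by simp) h0) h3.symm, ?_⟩
    have h4 := congrArg (· ≫ J.iCycles 0)
      (hex.liftFromProjective_comp (J.liftCycles (φ - ψ) 1 (by simp) h0) h3.symm)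
    simp only [Category.assoc, HomologicalComplex.liftCycles_i, HomologicalComplex.toCycles_i] at h4
    exact h4
  · let t := Projective.factorThru (η ≫ e.hom) (J.homologyπ 0)
    have ht : (t ≫ J.iCycles 0) ≫ J.d 0 1 = 0 := by rw [Category.assoc, HomologicalComplex.iCycles_d, comp_zero]
    refine ⟨cyc (t ≫ J.iCycles 0) ht, (cancel_mono e.hom).1 ?_⟩
    refine (hMap_cyc _ ht).trans ?_
    have : J.liftCycles (t ≫ J.iCycles 0) 1 (by simp) ht = t := by
      rw [← cancel_mono (J.iCycles 0), HomologicalComplex.liftCycles_i]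
    rw [this]
    exact Projective.factorThru_comp _ _

/-- Precomposition with `f • 𝟙` on maps in the derived category. -/
noncomputable def dSmul (f : Λ) (A : C) (M : DerivedCategory C) :
    ((singleFunctor C 0).obj A ⟶ M) →+ ((singleFunctor C 0).obj A ⟶ M) :=
  Preadditive.leftComp M ((singleFunctor C 0).map (f • 𝟙 A))

theorem dSmul_apply (f : Λ) {A : C} {M : DerivedCategory C} (x : (singleFunctor C 0).obj A ⟶ M) :
    dSmul f A M x = (singleFunctor C 0).map (f • 𝟙 A) ≫ x := rfl

theorem dBij_dSmul_iso (f : Λ) (A : C) {M N : DerivedCategory C} (e : M ≅ N) (h : DBij (dSmul f A M)) :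
    DBij (dSmul f A N) :=
  h.of_bijective (Preadditive.rightComp _ e.hom)
    ⟨fun a b hab => (cancel_mono e.hom).1 hab, fun b => ⟨b ≫ e.inv, by simp [Preadditive.rightComp]⟩⟩
    fun _ => Category.assoc _ _ _

variable [IsGrothendieckAbelian.{v} C]

theorem exists_kInj (M : DerivedCategory C) :
    ∃ J : CochainComplex C ℤ, J.IsKInjective ∧ Nonempty (Q.obj J ≅ M) := by
  obtain ⟨I, hI, ⟨e⟩⟩ := Groth.Agent.KInj.exists_kInjective_iso
    (fun K => Groth.Agent.KInj.hres_of_isGrothendieckAbelian C K) M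
  exact ⟨I, hI, ⟨((quotientCompQhIso C).app I).symm ≪≫ e⟩⟩

theorem dBij_dSmul_iff_of_projective (f : Λ) (Q₀ : C) [Projective Q₀] (M : DerivedCategory C) :
    DBij (dSmul f Q₀ M) ↔ DBij (preSmul f Q₀ ((homologyFunctor C 0).obj M)) := by
  obtain ⟨J, hJ, ⟨e⟩⟩ := exists_kInj M
  let g : ((singleFunctor C 0).obj Q₀ ⟶ M) →+ (Q₀ ⟶ (homologyFunctor C 0).obj M) :=
    AddMonoidHom.mk' (hMap Q₀ M) fun x y => by
      unfold hMap
      rw [Functor.map_add, Preadditive.comp_add]
  have hb : Function.Bijective g := by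
    let F₁ : ((singleFunctor C 0).obj Q₀ ⟶ M) ≃ ((singleFunctor C 0).obj Q₀ ⟶ Q.obj J) := e.symm.homToEquiv
    let F₂ : (Q₀ ⟶ (homologyFunctor C 0).obj (Q.obj J)) ≃ (Q₀ ⟶ (homologyFunctor C 0).obj M) :=
      ((homologyFunctor C 0).mapIso e).homToEquiv
    have : (g : _ → _) = F₂ ∘ hMap Q₀ (Q.obj J) ∘ F₁ := funext fun x => by
      show hMap Q₀ M x = hMap Q₀ (Q.obj J) (x ≫ e.inv) ≫ (homologyFunctor C 0).map e.hom
      unfold hMap
      rw [Category.assoc, ← Functor.map_comp, Category.assoc, e.inv_hom_id, Category.comp_id]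
    rw [this]
    exact F₂.bijective.comp ((hMap_bijective_of_projective Q₀ J).comp F₁.bijective)
  have hc : ∀ x, g (dSmul f Q₀ M x) = preSmul f Q₀ _ (g x) := fun x => by
    show hMap Q₀ M _ = (f • 𝟙 Q₀) ≫ hMap Q₀ M x
    unfold hMap
    rw [dSmul_apply, Functor.map_comp, ← Category.assoc, ← Category.assoc]
    congr 1
    exact ((singleFunctorCompHomologyFunctorIso C 0).inv.naturality (f • 𝟙 Q₀)).symm
  exact ⟨fun h => h.of_bijective g hb hc, fun h => DBij.of_bijective' g hb hc h⟩

/-- If the cohomology objects are derived complete, so are all `Hom`s from objects. -/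
theorem dBij_dSmul_of_dco [EnoughProjectives C] [HasLimitsOfShape (Discrete ℕ) C] (f : Λ)
    (J : CochainComplex C ℤ) [J.IsKInjective] (h : ∀ m : ℤ, DCO f (J.homology m)) (A : C) :
    DBij (dSmul f A (Q.obj J)) := by
  haveI := quasiIso_deltaCx J h
  let D := (NatTrans.mapHomologicalComplex (deltaNat (C := C) f) (ComplexShape.up ℤ)).app J
  haveI : IsIso (Q.map D) := inferInstance
  let comp : ((singleFunctor C 0).obj A ⟶ Q.obj (piCx J)) → ℕ → ((singleFunctor C 0).obj A ⟶ Q.obj J) :=
    fun x n => x ≫ Q.map (piCxπ J n)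
  have hcomp : Function.Bijective comp := by
    refine ⟨fun x y hxy => ?_, fun y => ?_⟩
    · obtain ⟨φ, hφ, rfl⟩ := cyc_surjective x
      obtain ⟨ψ, hψ, rfl⟩ := cyc_surjective y
      have h0 : (φ - ψ) ≫ (piCx J).d 0 1 = 0 := by rw [Preadditive.sub_comp, hφ, hψ, sub_zero]
      have he : cyc φ hφ = cyc (φ - ψ) h0 + cyc ψ hψ :=
        (cyc_congr (sub_add_cancel φ ψ).symm hφ).trans (cyc_add _ _ h0 hψ)
      suffices cyc (φ - ψ) h0 = 0 by rw [he, this, zero_add]
      have hk : ∀ n, cyc (φ - ψ) h0 ≫ Q.map (piCxπ J n) = 0 := fun n => by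
        have := congrFun hxy n
        simp only [comp] at this
        rw [he, Preadditive.add_comp] at this
        exact add_eq_right.1 this
      rw [cyc_eq_zero_iff]
      choose k hk using fun n => (cyc_eq_zero_iff _ _).1 ((cyc_comp (φ - ψ) h0 (piCxπ J n)).symm.trans (hk n))
      refine ⟨piNLift k, piN_hom_ext fun n => ?_⟩
      rw [Category.assoc]
      show piNLift k ≫ piN.map (J.d (-1) 0) ≫ (piNπ n).app (J.X 0) = _
      rw [(piNπ n).naturality, ← Category.assoc, piNLift_π]
      exact (hk n).trans (congrArg ((φ - ψ) ≫ ·) (piCxπ_f J n 0))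
    · choose φ hφ hy using fun n => cyc_surjective (y n)
      have hd : piNLift φ ≫ (piCx J).d 0 1 = 0 := piN_hom_ext fun n => by
        rw [zero_comp, Category.assoc]
        show piNLift φ ≫ piN.map (J.d 0 1) ≫ (piNπ n).app (J.X 1) = 0
        rw [(piNπ n).naturality, ← Category.assoc, piNLift_π]
        exact hφ n
      refine ⟨cyc (piNLift φ) hd, funext fun n => ?_⟩
      simp only [comp]
      rw [cyc_comp, ← hy]
      exact cyc_congr (by rw [piCxπ_f]; exact piNLift_π _ _) _
  have hsm : ∀ x : (singleFunctor C 0).obj A ⟶ Q.obj (piCx J),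
      delta (dSmul f A (Q.obj J)) (comp x) = comp (x ≫ Q.map D) := fun x => funext fun n => by
    obtain ⟨φ, hφ, rfl⟩ := cyc_surjective x
    simp only [comp, delta_apply]
    rw [dSmul_apply, cyc_comp, cyc_comp, cyc_comp, cyc_comp, single_map_comp_cyc, sub_eq_iff_eq_add]
    refine (cyc_congr ?_ _).trans (cyc_add _ _ _ _)
    simp only [D, piCxπ_f, NatTrans.mapHomologicalComplex_app_f, Category.assoc]
    rw [deltaNat_π, Preadditive.comp_sub, Linear.comp_smul, Linear.smul_comp, Category.id_comp, sub_add_cancel]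
  have hD : Function.Bijective (fun x : (singleFunctor C 0).obj A ⟶ Q.obj (piCx J) => x ≫ Q.map D) :=
    ⟨fun a b e => (cancel_mono (Q.map D)).1 e, fun b => ⟨b ≫ inv (Q.map D), by simp⟩⟩
  show Function.Bijective (delta (dSmul f A (Q.obj J)))
  rw [← Function.Bijective.of_comp_iff _ hcomp,
    show delta (dSmul f A (Q.obj J)) ∘ comp = comp ∘ (fun x => x ≫ Q.map D) from funext hsm]
  exact hcomp.comp hD

variable [HasCoproductsOfShape ℕ C]

/-- Components of a map out of a countable sum in the derived category. -/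
theorem dComp_bijective (A : C) (M : DerivedCategory C) :
    Function.Bijective (fun (x : (singleFunctor C 0).obj (∐ fun _ : ℕ => A) ⟶ M) (n : ℕ) =>
      (singleFunctor C 0).map (Sigma.ι (fun _ : ℕ => A) n) ≫ x) := by
  obtain ⟨J, hJ, ⟨e⟩⟩ := exists_kInj M
  refine ⟨fun x y hxy => ?_, fun y => ?_⟩
  · refine (cancel_mono e.inv).1 ?_
    obtain ⟨φ, hφ, h1⟩ := cyc_surjective (x ≫ e.inv)
    obtain ⟨ψ, hψ, h2⟩ := cyc_surjective (y ≫ e.inv)
    rw [← h1, ← h2]
    have h0 : (φ - ψ) ≫ J.d 0 1 = 0 := by rw [Preadditive.sub_comp, hφ, hψ, sub_zero]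
    have he : cyc φ hφ = cyc (φ - ψ) h0 + cyc ψ hψ :=
      (cyc_congr (sub_add_cancel φ ψ).symm hφ).trans (cyc_add _ _ h0 hψ)
    suffices cyc (φ - ψ) h0 = 0 by rw [he, this, zero_add]
    have hk : ∀ n, (singleFunctor C 0).map (Sigma.ι (fun _ : ℕ => A) n) ≫ cyc (φ - ψ) h0 = 0 := fun n => by
      have h3 := congrArg (· ≫ e.inv) (congrFun hxy n)
      simp only [Category.assoc] at h3
      rw [← h1, ← h2, he, Preadditive.comp_add] at h3
      exact add_eq_right.1 h3
    choose k hk' using fun n => (cyc_eq_zero_iff _ _).1 ((single_map_comp_cyc _ _ h0).symm.trans (hk n))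
    exact (cyc_eq_zero_iff _ _).2 ⟨Sigma.desc k, Sigma.hom_ext _ _ fun n => by
      rw [← Category.assoc, Sigma.ι_desc, hk']⟩
  · choose φ hφ hy using fun n => cyc_surjective (y n ≫ e.inv)
    refine ⟨cyc (Sigma.desc φ) (Sigma.hom_ext _ _ fun n => by
      rw [← Category.assoc, Sigma.ι_desc, hφ, comp_zero]) ≫ e.hom, funext fun n => ?_⟩
    simp only
    rw [← Category.assoc, single_map_comp_cyc, cyc_congr (Sigma.ι_desc φ n), hy, Category.assoc, e.inv_hom_id,
      Category.comp_id]

/-- Orthogonality to a telescope in the derived category. -/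
theorem subsingleton_dHom_iff (f : Λ) {A L : C} (π : (∐ fun _ : ℕ => A) ⟶ L) (w : tel f A ≫ π = 0)
    (hS : (ShortComplex.mk (tel f A) π w).ShortExact) (K : DerivedCategory C) :
    (∀ n : ℤ, Subsingleton ((singleFunctor C 0).obj L ⟶ K⟦n⟧)) ↔ ∀ n : ℤ, DBij (dSmul f A (K⟦n⟧)) := by
  refine (subsingleton_hom₃_iff hS.singleTriangle_distinguished K).trans (forall_congr' fun n => ?_)
  have hb := dComp_bijective A (K⟦n⟧)
  let cp : ((singleFunctor C 0).obj (∐ fun _ : ℕ => A) ⟶ K⟦n⟧) → ℕ → ((singleFunctor C 0).obj A ⟶ K⟦n⟧) :=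
    fun x m => (singleFunctor C 0).map (Sigma.ι (fun _ : ℕ => A) m) ≫ x
  have : delta (dSmul f A (K⟦n⟧)) ∘ cp =
      cp ∘ fun x : (singleFunctor C 0).obj (∐ fun _ : ℕ => A) ⟶ K⟦n⟧ => (singleFunctor C 0).map (tel f A) ≫ x :=
    funext fun x => funext fun m => by
      simp only [Function.comp_apply, delta_apply, dSmul_apply, cp]
      rw [← Category.assoc, ← Functor.map_comp, ← Category.assoc ((singleFunctor C 0).map _)
        ((singleFunctor C 0).map (tel f A)), ← Functor.map_comp, ι_tel, Functor.map_sub, Preadditive.sub_comp]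
  show Function.Bijective (fun x : (singleFunctor C 0).obj (∐ fun _ : ℕ => A) ⟶ K⟦n⟧ =>
    (singleFunctor C 0).map (tel f A) ≫ x) ↔ Function.Bijective (delta _)
  rw [← Function.Bijective.of_comp_iff' hb, ← Function.Bijective.of_comp_iff _ hb]
  exact iff_of_eq (congrArg Function.Bijective this.symm)

end Cycles

end Groth.Agent.ProEtDCLib
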