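import Groth.Agent.ProEtDCLib.ExtDC
import Mathlib.Data.Finsupp.Fin
import Mathlib.Data.Finsupp.Order
import Mathlib.RingTheory.MvPowerSeries.Basic

/-!
# Evaluating power series on derived complete objects
-/

set_option autoImplicit false
set_option linter.style.haveILetI false
set_option backward.isDefEq.respectTransparency false
set_option backward.isDefEq.respectTransparency.types false

namespace Groth.Agent.ProEtDCLib

open CategoryTheory Limits

universe w' v u w

variable {Λ : Type w} [CommRing Λ] {C : Type u} [Category.{v} C] [Abelian C] [Linear Λ C]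
  [∀ r : ℕ, HasProductsOfShape (Fin r →₀ ℕ) C]

/-- Power series in `r` variables with coefficients in `A`. -/
noncomputable abbrev psObj (r : ℕ) (A : C) : C := ∏ᶜ fun _ : Fin r →₀ ℕ => A

/-- A coefficient. -/
noncomputable abbrev psπ {r : ℕ} (A : C) (ν : Fin r →₀ ℕ) : psObj r A ⟶ A :=
  Pi.π (fun _ : Fin r →₀ ℕ => A) ν

/-- Multiplication by the `i`-th variable. -/
noncomputable def psMulX {r : ℕ} (A : C) (i : Fin r) : psObj r A ⟶ psObj r A :=
  Pi.lift fun ν => if 1 ≤ ν i then psπ A (ν - Finsupp.single i 1) else 0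

/-- Constant power series. -/
noncomputable def psConst (r : ℕ) (A : C) : A ⟶ psObj r A :=
  Pi.lift fun ν => if ν = 0 then 𝟙 A else 0

theorem psMulX_π {r : ℕ} (A : C) (i : Fin r) (ν : Fin r →₀ ℕ) :
    psMulX A i ≫ psπ A ν = if 1 ≤ ν i then psπ A (ν - Finsupp.single i 1) else 0 :=
  Pi.lift_π _ _

theorem psConst_π (r : ℕ) (A : C) (ν : Fin r →₀ ℕ) : psConst r A ≫ psπ A ν = if ν = 0 then 𝟙 A else 0 :=
  Pi.lift_π _ _

/-- The series of coefficients of a power of the first variable. -/
noncomputable def psTail (r : ℕ) (A : C) (n : ℕ) : psObj (r + 1) A ⟶ psObj r A :=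
  Pi.lift fun μ => psπ A (Finsupp.cons n μ)

theorem psTail_π (r : ℕ) (A : C) (n : ℕ) (μ : Fin r →₀ ℕ) :
    psTail r A n ≫ psπ A μ = psπ A (Finsupp.cons n μ) :=
  Pi.lift_π _ _

theorem cons_sub_single_zero {r : ℕ} (n : ℕ) (μ : Fin r →₀ ℕ) :
    Finsupp.cons (n + 1) μ - Finsupp.single 0 1 = Finsupp.cons n μ := by
  ext j
  refine Fin.cases ?_ (fun k => ?_) j
  · simp
  · simp

theorem cons_sub_single_succ {r : ℕ} (n : ℕ) (μ : Fin r →₀ ℕ) (i : Fin r) :
    Finsupp.cons n μ - Finsupp.single i.succ 1 = Finsupp.cons n (μ - Finsupp.single i 1) := by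
  ext j
  refine Fin.cases ?_ (fun k => ?_) j
  · simp
  · simp [Finsupp.single_apply]

theorem psMulX_zero_tail (r : ℕ) (A : C) :
    psMulX A (0 : Fin (r + 1)) ≫ psTail r A 0 = 0 ∧
      ∀ n, psMulX A (0 : Fin (r + 1)) ≫ psTail r A (n + 1) = psTail r A n := by
  refine ⟨Pi.hom_ext _ _ fun μ => ?_, fun n => Pi.hom_ext _ _ fun μ => ?_⟩
  · rw [Category.assoc, psTail_π, psMulX_π, if_neg (by simp), zero_comp]
  · rw [Category.assoc, psTail_π, psTail_π, psMulX_π, if_pos (by simp), cons_sub_single_zero]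

theorem psMulX_succ_tail (r : ℕ) (A : C) (i : Fin r) (n : ℕ) :
    psMulX A i.succ ≫ psTail r A n = psTail r A n ≫ psMulX A i := by
  refine Pi.hom_ext _ _ fun μ => ?_
  rw [Category.assoc, psTail_π, psMulX_π, Category.assoc, psMulX_π, Finsupp.cons_succ]
  split_ifs with h
  · rw [psTail_π, cons_sub_single_succ]
  · rw [comp_zero]

theorem psConst_tail (r : ℕ) (A : C) :
    psConst (r + 1) A ≫ psTail r A 0 = psConst r A ∧
      ∀ n, psConst (r + 1) A ≫ psTail r A (n + 1) = 0 := by
  refine ⟨Pi.hom_ext _ _ fun μ => ?_, fun n => Pi.hom_ext _ _ fun μ => ?_⟩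
  · rw [Category.assoc, psTail_π, psConst_π, psConst_π]
    by_cases h : μ = 0
    · rw [if_pos h, if_pos (by rw [h, Finsupp.cons_zero_zero])]
    · rw [if_neg h, if_neg fun h' => h (by rw [← Finsupp.tail_cons 0 μ, h']; ext; simp [Finsupp.tail_apply])]
  · rw [Category.assoc, psTail_π, psConst_π, zero_comp,
      if_neg fun h' => by simpa using congrArg (fun ν : Fin (r + 1) →₀ ℕ => ν 0) h']

variable [HasExt.{w'} C] [EnoughProjectives C]

theorem dBij_preSmul_of_dco {f : Λ} {F : C} (h : DCO f F) (Z : C) : DBij (preSmul f Z F) :=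
  (dBij_ext_zero_iff f Z F).1 (dBij_ext_of_dco h 0 Z)

/-- Evaluation of power series. -/
theorem exists_eval (F A : C) (s : A ⟶ F) :
    ∀ {r : ℕ} (a : Fin r → Λ), (∀ k, DCO (a k) F) →
      ∃ E : psObj r A ⟶ F, (∀ i, psMulX A i ≫ E = a i • E) ∧ psConst r A ≫ E = s := by
  intro r
  induction r with
  | zero =>
    intro a _
    refine ⟨psπ A 0 ≫ s, fun i => i.elim0, ?_⟩
    rw [← Category.assoc, psConst_π, if_pos rfl, Category.id_comp]
  | succ r ih =>
    intro a ha
    obtain ⟨E, hE, hE0⟩ := ih (fun k => a k.succ) fun k => ha k.succ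
    have hD := dBij_preSmul_of_dco (ha 0)
    obtain ⟨x, hx⟩ := (hD (psObj (r + 1) A)).exists_solution fun n => psTail r A n ≫ E
    simp only [preSmul_apply] at hx
    refine ⟨x 0, fun i => ?_, ?_⟩
    · refine Fin.cases ?_ (fun k => ?_) i
      · let z : ℕ → (psObj (r + 1) A ⟶ F) := fun n => n.casesOn (a 0 • x 0) x
        have := (hD (psObj (r + 1) A)).eq_zero (x := fun n => psMulX A 0 ≫ x n - z n) fun n => by
          rw [preSmul_apply, smul_sub, ← Linear.comp_smul, ← sub_eq_zero, sub_sub_sub_comm,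
            ← Preadditive.comp_sub, hx, ← Category.assoc]
          cases n with
          | zero => rw [(psMulX_zero_tail r A).1, zero_comp]; simp [z]
          | succ m =>
            rw [(psMulX_zero_tail r A).2, sub_eq_zero]
            exact (hx m).symm
        exact sub_eq_zero.1 (congrFun this 0)
      · have := (hD (psObj (r + 1) A)).eq_zero (x := fun n => psMulX A k.succ ≫ x n - a k.succ • x n) fun n => by
          rw [preSmul_apply, smul_sub, ← Linear.comp_smul, ← sub_eq_zero, sub_sub_sub_comm,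
            ← Preadditive.comp_sub, hx, ← Category.assoc, psMulX_succ_tail, Category.assoc, hE, Linear.comp_smul,
            smul_comm (a 0), ← smul_sub, hx, sub_self]
        exact sub_eq_zero.1 (congrFun this 0)
    · let z : ℕ → (A ⟶ F) := fun n => n.casesOn s fun _ => 0
      have := (hD A).eq_zero (x := fun n => psConst (r + 1) A ≫ x n - z n) fun n => by
        rw [preSmul_apply, smul_sub, ← Linear.comp_smul, ← sub_eq_zero, sub_sub_sub_comm,
          ← Preadditive.comp_sub, hx, ← Category.assoc]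
        cases n with
        | zero => rw [(psConst_tail r A).1, hE0]; simp [z]
        | succ m => rw [(psConst_tail r A).2, zero_comp]; simp [z]
      exact sub_eq_zero.1 (congrFun this 0)

end Groth.Agent.ProEtDCLib
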