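import Groth.Agent.ProEtDCLib.LambdaHat
import Mathlib.RingTheory.Finiteness.Basic
import Mathlib.CategoryTheory.Sites.LocallySurjective

/-!
# Generators of derived complete sheaves on a w-contractible affine
-/

set_option autoImplicit false
set_option linter.style.haveILetI false
set_option backward.isDefEq.respectTransparency false
set_option backward.isDefEq.respectTransparency.types false
set_option maxHeartbeats 1000000
universe u

namespace Groth.Agent.ProEtDCLib

open CategoryTheory Limits AlgebraicGeometry Opposite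

variable {Λ : Type (u + 1)} [CommRing Λ] {X : Scheme.{u}}

theorem ct_hom_eq_zero_iff {F : EtModW.ModP Λ X} (g : (ctFun Λ X).obj (ModuleCat.of Λ Λ) ⟶ F) :
    g = 0 ↔ ((ctAdj Λ X).homEquiv (ModuleCat.of Λ Λ) F g).hom (1 : Λ) = 0 := by
  have h0 : (ctAdj Λ X).homEquiv (ModuleCat.of Λ Λ) F (0 : _ ⟶ F) = 0 := by
    rw [← zero_smul Λ (0 : (ctFun Λ X).obj (ModuleCat.of Λ Λ) ⟶ F), ctHomEquiv_smul, zero_smul]
  refine ⟨fun h => by rw [h, h0]; rfl, fun h => ?_⟩
  refine ((ctAdj Λ X).homEquiv (ModuleCat.of Λ Λ) F).injective ?_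
  rw [h0]
  exact ModuleCat.hom_ext (LinearMap.ext_ring h)

/-- A locally constant sheaf of finite type on a w-contractible affine is generated by finitely many
global sections, in the weak sense needed to test maps out of it. -/
theorem exists_generators [IsAffine X] (hX : EtPBC.IsWContractible ↥(Γ(X, ⊤)))
    (Q : EtModW.ModP Λ X) (hQ : EtModW.IsFPLocConstP Λ Q) :
    ∃ (t : ℕ) (q : Fin t → ((ctFun Λ X).obj (ModuleCat.of Λ Λ) ⟶ Q)),
      ∀ (G : EtModW.ModP Λ X) (φ : Q ⟶ G), (∀ j, q j ≫ φ = 0) → φ = 0 := by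
  classical
  obtain ⟨ι, U, hU, hM⟩ := hQ
  choose M iAG iM hfp e using hM
  let T := ProEtS.topP X
  haveI : IsAffine T.left := ‹IsAffine X›
  obtain ⟨n, W, -, hd, hc, hR⟩ :=
    ((ProEtWC.isWContractible_iff_splits (U := T)).1 hX) _ hU
  have hfac : ∀ k, ∃ i, Nonempty (ProEtWC.opObj T (W k) ⟶ U i) := fun k => by
    obtain ⟨Y, a, b, ⟨i⟩, -⟩ := hR k
    exact ⟨i, ⟨a⟩⟩
  choose i hi using hfac
  let a := fun k => (hi k).some
  let J := fun j => (Scheme.ProEt.topology X).over (U j)
  let CM := fun j => (constantSheaf (J j) (ModuleCat.{u + 1} Λ)).obj (ModuleCat.of Λ (M j))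
  let η := fun j => toSheafify (J j) ((Functor.const (Over (U j))ᵒᵖ).obj (ModuleCat.of Λ (M j)))
  -- the images of the generators
  let z : ∀ j, M j →ₗ[Λ] Q.obj.obj (op (U j)) := fun j =>
    ((η j).app (op (Over.mk (𝟙 (U j)))) ≫ (e j).some.inv.hom.app (op (Over.mk (𝟙 (U j))))).hom
  have hfin : ∀ j, ∃ (t : ℕ) (m : Fin t → M j), Submodule.span Λ (Set.range m) = ⊤ := fun j =>
    haveI := hfp j
    Module.Finite.exists_fin
  choose t m hm using hfin
  let S := Σ k : Fin n, Fin (t (i k))
  let Qs : Sheaf (Scheme.ProEt.topology X) (Type (u + 1)) :=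
    (sheafCompose _ (forget (ModuleCat.{u + 1} Λ))).obj Q
  have hglue : ∀ p : S, ∃ s : Q.obj.obj (op T), ∀ k', (Q.obj.map (ProEtWC.opIncl T (W k')).op).hom s =
      if h : k' = p.1 then (Q.obj.map (a k').op).hom (z (i k') (m (i k') (h ▸ p.2))) else 0 := fun p =>
    ProEtWC.exists_glue Qs W hd hc fun k' =>
      ((if h : k' = p.1 then (Q.obj.map (a k').op).hom (z (i k') (m (i k') (h ▸ p.2))) else 0) :
        Q.obj.obj (op (ProEtWC.opObj T (W k'))))
  choose s hs using hglue
  let e' : Fin (Fintype.card S) ≃ S := (Fintype.equivFin S).symm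
  let qh : S → ((ctFun Λ X).obj (ModuleCat.of Λ Λ) ⟶ Q) := fun p =>
    ((ctAdj Λ X).homEquiv (ModuleCat.of Λ Λ) Q).symm
      (ModuleCat.ofHom (LinearMap.toSpanSingleton Λ ((topSec Λ X).obj Q) (s p)))
  refine ⟨Fintype.card S, fun j => qh (e' j), fun G φ hφ => ?_⟩
  have h0 : ∀ p : S, (φ.hom.app (op T)).hom (s p) = 0 := fun p => by
    have h1 := (ct_hom_eq_zero_iff _).1 (hφ (e'.symm p))
    simp only [Equiv.apply_symm_apply] at h1
    rw [ctHomEquiv_comp] at h1
    simp only [qh, Equiv.apply_symm_apply] at h1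
    exact (congrArg (φ.hom.app (op T)).hom (one_smul Λ (s p)).symm).trans h1
  -- vanishing on the generators restricted to the pieces
  have hz : ∀ k (l : Fin (t (i k))), (φ.hom.app (op (ProEtWC.opObj T (W k)))).hom
      ((Q.obj.map (a k).op).hom (z (i k) (m (i k) l))) = 0 := fun k l => by
    have h1 := hs ⟨k, l⟩ k
    rw [dif_pos rfl] at h1
    rw [← h1]
    refine (φ.hom.naturality_apply (ProEtWC.opIncl T (W k)).op (s ⟨k, l⟩)).trans ?_
    rw [h0, map_zero]
  have hzM : ∀ k (x : M (i k)), (φ.hom.app (op (ProEtWC.opObj T (W k)))).hom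
      ((Q.obj.map (a k).op).hom (z (i k) x)) = 0 := fun k => by
    let F : M (i k) →ₗ[Λ] G.obj.obj (op (ProEtWC.opObj T (W k))) :=
      (φ.hom.app (op (ProEtWC.opObj T (W k)))).hom.comp ((Q.obj.map (a k).op).hom.comp (z (i k)))
    have : F = 0 := LinearMap.ext_on_range (hm (i k)) fun l => hz k l
    exact fun x => LinearMap.congr_fun this x
  -- locally every section comes from the generators
  have hloc : ∀ k {V : X.ProEt} (g : V ⟶ ProEtWC.opObj T (W k)) (x : Q.obj.obj (op V)),
      (φ.hom.app (op V)).hom x = 0 := fun k {V} g x => by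
    let O : Over (U (i k)) := Over.mk (g ≫ a k)
    let x' := ((e (i k)).some.hom.hom.app (op O)).hom x
    have hcov := Presheaf.imageSieve_mem (J (i k)) (η (i k)) x'
    let Gs : Sheaf (Scheme.ProEt.topology X) (Type (u + 1)) :=
      (sheafCompose _ (forget (ModuleCat.{u + 1} Λ))).obj G
    refine ((isSheaf_iff_isSheaf_of_type _ _).1 Gs.property _
      ((GrothendieckTopology.mem_over_iff _ _).1 hcov)).isSeparatedFor.ext ?_
    intro Z f hf
    obtain ⟨y, hy⟩ := (Sieve.overEquiv_iff _ f).1 hf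
    show (G.obj.map f.op).hom ((φ.hom.app (op V)).hom x) = (G.obj.map f.op).hom 0
    rw [map_zero]
    refine (φ.hom.naturality_apply f.op x).symm.trans ?_
    show (φ.hom.app (op Z)).hom ((Q.obj.map f.op).hom x) = 0
    let Of : Over (U (i k)) := Over.mk (f ≫ g ≫ a k)
    let fo : Of ⟶ O := Over.homMk f
    let to1 : Of ⟶ Over.mk (𝟙 (U (i k))) := Over.homMk (f ≫ g ≫ a k) (Category.comp_id _)
    have hy2 : ((η (i k)).app (op Of)).hom y = ((e (i k)).some.hom.hom.app (op Of)).hom ((Q.obj.map f.op).hom x) :=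
      hy.trans (((e (i k)).some.hom.hom.naturality_apply fo.op x).symm)
    have hq : (Q.obj.map f.op).hom x =
        ((e (i k)).some.inv.hom.app (op Of)).hom (((η (i k)).app (op Of)).hom y) := by
      rw [hy2]
      have h3 : (e (i k)).some.hom.hom.app (op Of) ≫ (e (i k)).some.inv.hom.app (op Of) = 𝟙 _ := by
        rw [← NatTrans.comp_app, ← ObjectProperty.FullSubcategory.comp_hom, (e (i k)).some.hom_inv_id]
        rfl
      exact (LinearMap.congr_fun (congrArg ModuleCat.Hom.hom h3) ((Q.obj.map f.op).hom x)).symm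
    have hyz : ((e (i k)).some.inv.hom.app (op Of)).hom (((η (i k)).app (op Of)).hom y) =
        (Q.obj.map (f ≫ g ≫ a k).op).hom (z (i k) y) :=
      (congrArg ((e (i k)).some.inv.hom.app (op Of)).hom ((η (i k)).naturality_apply to1.op y)).trans
        ((e (i k)).some.inv.hom.naturality_apply to1.op _)
    rw [hq, hyz, ← Category.assoc, op_comp, Functor.map_comp]
    show (φ.hom.app (op Z)).hom ((Q.obj.map (f ≫ g).op).hom ((Q.obj.map (a k).op).hom (z (i k) y))) = 0
    refine (φ.hom.naturality_apply (f ≫ g).op _).trans ?_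
    show (G.obj.map (f ≫ g).op).hom ((φ.hom.app _).hom _) = 0
    rw [hzM, map_zero]
  ext ⟨V⟩ x
  let Gs : Sheaf (Scheme.ProEt.topology X) (Type (u + 1)) :=
    (sheafCompose _ (forget (ModuleCat.{u + 1} Λ))).obj G
  let tV : V ⟶ T := (topTerminal X).from V
  refine ((isSheaf_iff_isSheaf_of_type _ _).1 Gs.property _
    ((Scheme.ProEt.topology X).pullback_stable tV (ProEtWC.ofArrows_opens_mem W hc))).isSeparatedFor.ext ?_
  rintro Z f ⟨Y, b, c, ⟨k⟩, -⟩
  show (G.obj.map f.op).hom ((φ.hom.app (op V)).hom x) = (G.obj.map f.op).hom 0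
  rw [map_zero]
  exact (φ.hom.naturality_apply f.op x).symm.trans (hloc k b _)

/-- A derived complete sheaf with finitely presented locally constant reduction is a quotient of a finite sum of
completed constant sheaves. -/
theorem exists_epi_lambdaHat [IsAffine X] (hX : EtPBC.IsWContractible ↥(Γ(X, ⊤))) [IsNoetherianRing Λ]
    {r : ℕ} (a : Fin r → Λ) (F : EtModW.ModP Λ X)
    (hF : ProEtDC.IsDCSheaf Λ (Ideal.span (Set.range a)) F)
    (hq : EtModW.IsFPLocConstP Λ (cokernel (ProEtDC.gensMap Λ a F))) :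
    ∃ (t : ℕ) (φ : (⨁ fun _ : Fin t => LH a) ⟶ F), Epi φ := by
  let T := ProEtS.topP X
  haveI : IsAffine T.left := ‹IsAffine X›
  have hT : ProEtS.IsWC T := ProEtWC.isWC_of_isWContractible (U := T) hX
  let π := cokernel.π (ProEtDC.gensMap Λ a F)
  obtain ⟨t, q, hgen⟩ := exists_generators hX _ hq
  have hlift : ∀ j, ∃ s : (ctFun Λ X).obj (ModuleCat.of Λ Λ) ⟶ F, s ≫ π = q j := fun j => by
    obtain ⟨x, hx⟩ := ProEtFull.surjective_of_epi π hT
      (((ctAdj Λ X).homEquiv (ModuleCat.of Λ Λ) _ (q j)).hom (1 : Λ))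
    refine ⟨((ctAdj Λ X).homEquiv (ModuleCat.of Λ Λ) F).symm
      (ModuleCat.ofHom (LinearMap.toSpanSingleton Λ ((topSec Λ X).obj F) x)), ?_⟩
    refine ((ctAdj Λ X).homEquiv _ _).injective (ModuleCat.hom_ext (LinearMap.ext_ring ?_))
    rw [ctHomEquiv_comp, Equiv.apply_symm_apply]
    exact (congrArg (π.hom.app (op T)).hom (one_smul Λ x)).trans hx
  choose s hs using hlift
  choose Φ hΦ using fun j => exists_hom_lambdaHat a hF (s j)
  let φ : (⨁ fun _ : Fin t => LH a) ⟶ F := biproduct.desc Φ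
  refine ⟨t, φ, ?_⟩
  rw [isDCSheaf_iff] at hF
  have hC : ∀ f ∈ Ideal.span (Set.range a), DCO f (cokernel φ) := fun f hf => by
    refine DCO.cokernel φ ?_ (hF f hf)
    refine dco_of_iso (biproduct.isoProduct _) (dco_limit _ fun j => ?_)
    refine dco_limit _ ?_
    rintro ⟨n⟩
    refine dco_of_pow_smul_id_eq_zero f _ n (smul_id_constantSheaf_eq_zero _ _ fun v =>
      Submodule.Quotient.induction_on _ v fun w => ?_)
    rw [← Submodule.Quotient.mk_smul, Submodule.Quotient.mk_eq_zero]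
    exact Submodule.smul_mem_smul (Ideal.pow_mem_pow hf n) trivial
  have h0 : ProEtDC.ModGensIsZero Λ a (cokernel φ) := by
    refine Preadditive.epi_of_cancel_zero _ fun {G} θ hθ => ?_
    have hθk : ∀ k, a k • θ = 0 := fun k => by
      have := congrArg (biproduct.ι (fun _ : Fin r => cokernel φ) k ≫ ·) hθ
      rw [biproduct.ι_desc_assoc, comp_zero, smulHom_eq, Linear.smul_comp, Category.id_comp] at this
      exact this
    have hθg : ProEtDC.gensMap Λ a F ≫ (cokernel.π φ ≫ θ) = 0 := by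
      refine biproduct.hom_ext' _ _ fun k => ?_
      rw [biproduct.ι_desc_assoc, comp_zero, smulHom_eq, Linear.smul_comp, Category.id_comp, ← Linear.comp_smul,
        hθk, comp_zero]
    have : cokernel.desc _ _ hθg = 0 := hgen G _ fun j => by
      rw [← hs j, Category.assoc, cokernel.π_desc, ← hΦ j]
      have h1 : Φ j ≫ cokernel.π φ = 0 := by
        rw [← biproduct.ι_desc Φ j, Category.assoc, cokernel.condition, comp_zero]
      rw [Category.assoc, reassoc_of% h1, zero_comp, comp_zero]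
    have h2 := cokernel.π_desc _ _ hθg
    rw [this, comp_zero] at h2
    exact (cancel_epi (cokernel.π φ)).1 (h2.symm.trans comp_zero.symm)
  have hz : IsZero (cokernel φ) := isZero_of_wc fun W hW =>
    subsingleton_of_dBij_of_eq_sum a _ (fun k => (dco_iff_wc _ _).1 (hC _ (Ideal.subset_span ⟨k, rfl⟩)) W hW)
      fun x => exists_sum_of_modGensIsZero a h0 hW x
  exact Abelian.epi_of_cokernel_π_eq_zero φ (hz.eq_of_tgt _ _)

end Groth.Agent.ProEtDCLib
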