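import Mathlib.RingTheory.MvPowerSeries.Basic
import Mathlib.RingTheory.MvPolynomial.Homogeneous
import Mathlib.RingTheory.Flat.EquationalCriterion
import Mathlib.RingTheory.Polynomial.Basic
import Mathlib.Algebra.TrivSqZeroExt.Basic
import Mathlib.LinearAlgebra.DirectSum.Basis

/-!
# The kernel of evaluation of power series in a completion

For a Noetherian ring `Λ`, elements `a_i` generating `I` and a flat `Λ`-module `M`, a power series with
coefficients in `M` whose partial sums at `a` tend to `0` `I`-adically lies in `∑ (T_i - a_i) M[[T]]`.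
-/

set_option autoImplicit false

namespace Groth.Agent.ProEtDCLib

open MvPolynomial

universe u v

variable {Λ : Type u} [CommRing Λ] {r : ℕ} (a : Fin r → Λ)

/-- Scalar value of a monomial. -/
def monVal (ν : Fin r →₀ ℕ) : Λ := ∏ i, a i ^ ν i

/-- The exponents of a given degree. -/
noncomputable def degSet (r n : ℕ) : Finset (Fin r →₀ ℕ) :=
  (Finset.univ : Finset (Fin r)).finsuppAntidiag n

theorem mem_degSet {r n : ℕ} {ν : Fin r →₀ ℕ} : ν ∈ degSet r n ↔ ν.degree = n := by
  simp [degSet, Finset.mem_finsuppAntidiag, Finsupp.degree_eq_sum]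

section Ring

variable {R : Type v} [CommRing R] [Algebra Λ R]

/-- The polynomial with given coefficients in a given degree. -/
noncomputable def form (n : ℕ) (c : (Fin r →₀ ℕ) → R) : MvPolynomial (Fin r) R :=
  ∑ μ ∈ degSet r n, monomial μ (c μ)

theorem coeff_form (n : ℕ) (c : (Fin r →₀ ℕ) → R) (ν : Fin r →₀ ℕ) :
    coeff ν (form n c) = if ν.degree = n then c ν else 0 := by
  rw [form, coeff_sum]
  simp only [coeff_monomial]
  rw [Finset.sum_ite_eq']
  simp [mem_degSet]

theorem isHomogeneous_form (n : ℕ) (c : (Fin r →₀ ℕ) → R) : (form n c).IsHomogeneous n := by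
  intro ν hν
  rw [coeff_form] at hν
  split_ifs at hν with h
  · rw [← h, Finsupp.degree_eq_weight_one]
    rfl
  · exact absurd rfl hν

theorem aeval_form (n : ℕ) (c : (Fin r →₀ ℕ) → R) :
    aeval (fun i => algebraMap Λ R (a i)) (form n c) = ∑ μ ∈ degSet r n, monVal a μ • c μ := by
  rw [form, map_sum]
  refine Finset.sum_congr rfl fun μ _ => ?_
  rw [aeval_monomial, Finsupp.prod_fintype _ _ (fun i => pow_zero _), Algebra.smul_def, monVal, map_prod, mul_comm]
  simp

theorem form_coeff {n : ℕ} {P : MvPolynomial (Fin r) R} (hP : P.IsHomogeneous n) :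
    form n (fun μ => coeff μ P) = P := by
  ext ν
  rw [coeff_form]
  split_ifs with h
  · rfl
  · exact (hP.coeff_eq_zero h).symm

/-- Sending `T_i` to `a_i t`. -/
noncomputable def toT : MvPolynomial (Fin r) Λ →ₐ[Λ] Polynomial Λ :=
  aeval fun i => Polynomial.C (a i) * Polynomial.X

theorem coeff_toT (P : MvPolynomial (Fin r) Λ) (n : ℕ) :
    (toT a P).coeff n = aeval a (homogeneousComponent n P) := by
  induction P using MvPolynomial.induction_on' with
  | monomial μ c =>
    rw [toT, aeval_monomial, Finsupp.prod_fintype _ _ (fun i => pow_zero _)]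
    simp only [mul_pow, Finset.prod_mul_distrib, Finset.prod_pow_eq_pow_sum, ← map_pow, ← map_prod,
      Polynomial.algebraMap_eq]
    rw [← mul_assoc, ← map_mul, Polynomial.coeff_C_mul_X_pow,
      homogeneousComponent_of_mem (isHomogeneous_monomial c (n := μ.degree) rfl)]
    rw [Finsupp.degree_eq_sum]
    split_ifs with h1
    · rw [aeval_monomial, Finsupp.prod_fintype _ _ (fun i => pow_zero _)]
      rfl
    · exact (map_zero _).symm
  | add p q hp hq => simp only [map_add, Polynomial.coeff_add, hp, hq]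

theorem mem_ker_toT_iff (P : MvPolynomial (Fin r) Λ) :
    P ∈ RingHom.ker (toT a) ↔ ∀ n, aeval a (homogeneousComponent n P) = 0 := by
  rw [RingHom.mem_ker, Polynomial.ext_iff]
  simp [coeff_toT]

theorem homogeneous_mem_ker_iff {P : MvPolynomial (Fin r) Λ} {n : ℕ} (hP : P.IsHomogeneous n) :
    P ∈ RingHom.ker (toT a) ↔ aeval a P = 0 := by
  rw [mem_ker_toT_iff]
  refine ⟨fun h => ?_, fun h m => ?_⟩
  · have := h n
    rwa [homogeneousComponent_of_mem hP, if_pos rfl] at this
  · rw [homogeneousComponent_of_mem hP]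
    split_ifs
    · exact h
    · exact map_zero _

/-- Finitely many homogeneous generators of the relations between monomials in the `a_i`. -/
theorem exists_gens [IsNoetherianRing Λ] :
    ∃ (ι : Type u) (_ : Fintype ι) (P : ι → MvPolynomial (Fin r) Λ) (d : ι → ℕ),
      (∀ j, (P j).IsHomogeneous (d j)) ∧ (∀ j, aeval a (P j) = 0) ∧
        RingHom.ker (toT a) = Ideal.span (Set.range P) := by
  classical
  obtain ⟨S, hS⟩ := (IsNoetherian.noetherian (RingHom.ker (toT a)) : (RingHom.ker (toT a)).FG)
  let ι := Σ x : S, Fin ((x : MvPolynomial (Fin r) Λ).totalDegree + 1)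
  refine ⟨ι, inferInstance, fun j => homogeneousComponent (j.2 : ℕ) (j.1 : MvPolynomial (Fin r) Λ),
    fun j => (j.2 : ℕ), fun j => homogeneousComponent_isHomogeneous _ _, fun j => ?_, ?_⟩
  · have h := (mem_ker_toT_iff a _).1 (hS ▸ Submodule.subset_span j.1.2 :
      (j.1 : MvPolynomial (Fin r) Λ) ∈ RingHom.ker (toT a))
    exact h _
  · refine le_antisymm ?_ (Ideal.span_le.2 ?_)
    · rw [← hS]
      refine Submodule.span_le.2 fun x hx => ?_
      rw [SetLike.mem_coe, ← sum_homogeneousComponent x]
      exact Submodule.sum_mem _ fun i hi =>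
        Ideal.subset_span ⟨⟨⟨x, hx⟩, ⟨i, Finset.mem_range.1 hi⟩⟩, rfl⟩
    · rintro _ ⟨j, rfl⟩
      refine (mem_ker_toT_iff a _).2 fun m => ?_
      rw [homogeneousComponent_of_mem (homogeneousComponent_isHomogeneous _ _)]
      split_ifs
      · exact (mem_ker_toT_iff a _).1 (hS ▸ Submodule.subset_span j.1.2) _
      · exact map_zero _

theorem sub_C_eval_mem (P : MvPolynomial (Fin r) R) (b : Fin r → R) :
    P - C (eval b P) ∈ Ideal.span (Set.range fun i => X i - C (b i)) := by
  induction P using MvPolynomial.induction_on with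
  | C c => simp
  | add p q hp hq =>
    rw [map_add, map_add, add_sub_add_comm]
    exact add_mem hp hq
  | mul_X p i hp =>
    have : p * X i - C (eval b (p * X i)) = (p - C (eval b p)) * X i + C (eval b p) * (X i - C (b i)) := by
      rw [map_mul, map_mul, eval_X]; ring
    rw [this]
    exact add_mem (Ideal.mul_mem_right _ _ hp) (Ideal.mul_mem_left _ _ (Ideal.subset_span ⟨i, rfl⟩))

theorem exists_forms {n : ℕ} {s : R}
    (hs : s ∈ (Ideal.span (Set.range a) ^ (n + 1)).map (algebraMap Λ R)) :
    ∃ u : Fin r → MvPolynomial (Fin r) R, (∀ i, (u i).IsHomogeneous n) ∧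
      ∑ i, algebraMap Λ R (a i) * aeval (fun k => algebraMap Λ R (a k)) (u i) = s := by
  induction n generalizing s with
  | zero =>
    rw [zero_add, pow_one, Ideal.map_span, ← Set.range_comp] at hs
    obtain ⟨c, rfl⟩ := (Submodule.mem_span_range_iff_exists_fun R).1 hs
    refine ⟨fun i => C (c i), fun i => isHomogeneous_C _ _, Finset.sum_congr rfl fun i _ => ?_⟩
    simp [mul_comm]
  | succ n ih =>
    rw [pow_succ _ (n + 1), Ideal.map_mul] at hs
    refine Submodule.mul_induction_on hs (fun x hx y hy => ?_) ?_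
    · obtain ⟨u, hu, hx'⟩ := ih hx
      rw [Ideal.map_span, ← Set.range_comp] at hy
      obtain ⟨c, rfl⟩ := (Submodule.mem_span_range_iff_exists_fun R).1 hy
      refine ⟨fun i => C (c i) * ∑ k, X k * u k, fun i => ?_, ?_⟩
      · refine IsHomogeneous.C_mul (IsHomogeneous.sum _ _ _ fun k _ => ?_) _
        rw [add_comm n 1]
        exact (isHomogeneous_X _ k).mul (hu k)
      · rw [Finset.mul_sum]
        refine Finset.sum_congr rfl fun i _ => ?_
        simp only [map_mul, map_sum, aeval_C, aeval_X, Algebra.algebraMap_self, RingHom.id_apply, hx',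
          Function.comp_apply, smul_eq_mul]
        ring
    · rintro _ _ ⟨u, hu, rfl⟩ ⟨u', hu', rfl⟩
      refine ⟨fun i => u i + u' i, fun i => (hu i).add (hu' i), ?_⟩
      simp only [map_add, mul_add, Finset.sum_add_distrib]

theorem exists_mem_span_of_aeval_eq_zero [Module.Flat Λ R] {n : ℕ} {e : MvPolynomial (Fin r) R}
    (he : e.IsHomogeneous n) (h0 : aeval (fun i => algebraMap Λ R (a i)) e = 0) :
    e ∈ (RingHom.ker (toT a)).map (MvPolynomial.map (algebraMap Λ R)) := by
  rw [← form_coeff he, aeval_form] at h0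
  have h1 : ∑ μ : ↥(degSet r n), monVal a μ.1 • coeff μ.1 e = 0 :=
    (Finset.sum_coe_sort (degSet r n) fun μ => monVal a μ • coeff μ e).trans h0
  obtain ⟨k, A, y, hy, hA⟩ := Module.Flat.isTrivialRelation_of_sum_smul_eq_zero h1
  classical
  let B : Fin k → (Fin r →₀ ℕ) → Λ := fun j μ => if hμ : μ ∈ degSet r n then A ⟨μ, hμ⟩ j else 0
  have hB : ∀ j, form n (B j) ∈ RingHom.ker (toT a) := fun j => by
    rw [homogeneous_mem_ker_iff a (isHomogeneous_form n _)]
    refine (aeval_form (R := Λ) a n (B j)).trans (Eq.trans ?_ (hA j))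
    rw [← Finset.sum_coe_sort]
    refine Finset.sum_congr rfl fun μ _ => ?_
    simp [B, smul_eq_mul, μ.2]
  have he' : e = ∑ j, C (y j) * MvPolynomial.map (algebraMap Λ R) (form n (B j)) := by
    refine MvPolynomial.ext _ _ fun ν => ?_
    simp only [coeff_sum, coeff_C_mul, coeff_map, coeff_form]
    by_cases hν : ν.degree = n
    · have hν' : ν ∈ degSet r n := mem_degSet.2 hν
      have h2 := hy ⟨ν, hν'⟩
      simp only at h2
      rw [h2]
      refine Finset.sum_congr rfl fun j _ => ?_
      simp [hν, B, hν', Algebra.smul_def, mul_comm]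
    · rw [he.coeff_eq_zero hν]
      simp [hν]
  rw [he']
  exact Ideal.sum_mem _ fun j _ => Ideal.mul_mem_left _ _ (Ideal.mem_map_of_mem _ (hB j))

/-- Power series with partial sums at `a` tending to zero lie in the ideal of the `T_i - a_i`. -/
theorem mem_span_X_sub_C [IsNoetherianRing Λ] [Module.Flat Λ R] (g : MvPowerSeries (Fin r) R)
    (hg : ∀ n, ∑ k ∈ Finset.range n, ∑ μ ∈ degSet r k, monVal a μ • MvPowerSeries.coeff μ g ∈
      (Ideal.span (Set.range a) ^ n).map (algebraMap Λ R)) :
    g ∈ Ideal.span (Set.range fun i =>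
      (MvPowerSeries.X i - MvPowerSeries.C (algebraMap Λ R (a i)) : MvPowerSeries (Fin r) R)) := by
  classical
  let b := fun i => algebraMap Λ R (a i)
  let s : ℕ → R := fun n => ∑ k ∈ Finset.range n, ∑ μ ∈ degSet r k, monVal a μ • MvPowerSeries.coeff μ g
  choose u hu hus using fun n => exists_forms a (hg (n + 1))
  let hprev : ℕ → MvPolynomial (Fin r) R := fun n => n.casesOn 0 fun m => ∑ i, X i * u m i
  have hprev_hom : ∀ n, (hprev n).IsHomogeneous n := fun n => by
    cases n with
    | zero => exact isHomogeneous_zero _ _ _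
    | succ m =>
      refine IsHomogeneous.sum _ _ _ fun i _ => ?_
      rw [add_comm m 1]
      exact (isHomogeneous_X _ i).mul (hu m i)
  have hprev_val : ∀ n, aeval b (hprev n) = s n := fun n => by
    cases n with
    | zero => simp [hprev, s]
    | succ m =>
      simp only [hprev, map_sum, map_mul, aeval_X]
      exact hus m
  let e : ℕ → MvPolynomial (Fin r) R := fun n =>
    form n (fun μ => MvPowerSeries.coeff μ g) + hprev n - ∑ i, C (b i) * u n i
  have he_hom : ∀ n, (e n).IsHomogeneous n := fun n =>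
    ((isHomogeneous_form n _).add (hprev_hom n)).sub
      (IsHomogeneous.sum _ _ _ fun i _ => (hu n i).C_mul _)
  have he_val : ∀ n, aeval b (e n) = 0 := fun n => by
    have hr : aeval b (∑ i, C (b i) * u n i) = s (n + 1) := by
      simp only [map_sum, map_mul, aeval_C, Algebra.algebraMap_self, RingHom.id_apply]
      exact hus n
    rw [map_sub, map_add, hr, hprev_val, aeval_form, sub_eq_zero]
    simp only [s, Finset.sum_range_succ]
    exact add_comm _ _
  obtain ⟨ι, _, P, d, hP, hP0, hspan⟩ := exists_gens a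
  let PR : ι → MvPolynomial (Fin r) R := fun j => MvPolynomial.map (algebraMap Λ R) (P j)
  have he_mem : ∀ n, ∃ c : ι → MvPolynomial (Fin r) R, ∑ j, c j * PR j = e n := fun n => by
    have := exists_mem_span_of_aeval_eq_zero a (he_hom n) (he_val n)
    rw [hspan, Ideal.map_span, ← Set.range_comp] at this
    exact (Submodule.mem_span_range_iff_exists_fun _).1 this
  choose c hc using he_mem
  let Mj : ι → MvPowerSeries (Fin r) R := fun j ρ => coeff ρ (c (ρ.degree + d j) j)
  let U : Fin r → MvPowerSeries (Fin r) R := fun i ρ => coeff ρ (u ρ.degree i)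
  let K : Ideal (MvPowerSeries (Fin r) R) :=
    Ideal.span (Set.range fun i => MvPowerSeries.X i - MvPowerSeries.C (b i))
  let co : MvPolynomial (Fin r) R →+* MvPowerSeries (Fin r) R := MvPolynomial.coeToMvPowerSeries.ringHom
  have hPK : ∀ j, co (PR j) ∈ K := fun j => by
    have h1 := sub_C_eval_mem (PR j) b
    have h2 : eval b (PR j) = 0 := by
      have h3 := congrArg (algebraMap Λ R) (hP0 j)
      rw [map_zero] at h3
      rw [← h3, eval_map, aeval_def]
      exact (eval₂_comp_left (algebraMap Λ R) (RingHom.id Λ) a (P j)).symm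
    rw [h2, map_zero, sub_zero] at h1
    have h3 := Ideal.mem_map_of_mem co h1
    rw [Ideal.map_span, ← Set.range_comp] at h3
    refine Ideal.span_mono ?_ h3
    rintro _ ⟨i, rfl⟩
    exact ⟨i, ((map_sub co (X i) (C (b i))).trans (congrArg₂ (· - ·) (MvPolynomial.coe_X i) (MvPolynomial.coe_C _))).symm⟩
  have key : g = ∑ j, co (PR j) * Mj j - ∑ i, (MvPowerSeries.X i - MvPowerSeries.C (b i)) * U i := by
    refine MvPowerSeries.ext fun ν => ?_
    have hG : MvPowerSeries.coeff ν (∑ j, co (PR j) * Mj j) = coeff ν (e ν.degree) := by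
      rw [map_sum, ← hc, coeff_sum]
      refine Finset.sum_congr rfl fun j _ => ?_
      rw [MvPowerSeries.coeff_mul, mul_comm, coeff_mul]
      refine Finset.sum_congr rfl fun p hp => ?_
      rw [Finset.mem_antidiagonal] at hp
      show coeff p.1 (PR j) * coeff p.2 (c (p.2.degree + d j) j) = _
      by_cases h0 : coeff p.1 (PR j) = 0
      · rw [h0, zero_mul, zero_mul]
      · have hd : p.1.degree = d j := by
          by_contra hne
          exact h0 (((hP j).map _).coeff_eq_zero hne)
        rw [← hp, map_add, hd, add_comm (d j)]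
    have hCU : MvPowerSeries.coeff ν (∑ i, MvPowerSeries.C (b i) * U i) = coeff ν (∑ i, C (b i) * u ν.degree i) := by
      rw [map_sum, coeff_sum]
      exact Finset.sum_congr rfl fun i _ => by rw [MvPowerSeries.coeff_C_mul, coeff_C_mul]; rfl
    have hXU : MvPowerSeries.coeff ν (∑ i, MvPowerSeries.X i * U i) = coeff ν (hprev ν.degree) := by
      rw [map_sum]
      rcases hd : ν.degree with _ | m
      · simp only [hprev, coeff_zero]
        refine Finset.sum_eq_zero fun i _ => ?_
        rw [MvPowerSeries.X_def, MvPowerSeries.coeff_monomial_mul, if_neg]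
        intro hle
        have := Finsupp.degree_mono hle
        simp [hd] at this
      · simp only [hprev, coeff_sum]
        refine Finset.sum_congr rfl fun i _ => ?_
        rw [MvPowerSeries.X_def, MvPowerSeries.coeff_monomial_mul, one_mul,
          show (X i : MvPolynomial (Fin r) R) = monomial (Finsupp.single i 1) 1 from rfl, coeff_monomial_mul', one_mul]
        split_ifs with hle
        · show coeff _ (u (ν - Finsupp.single i 1).degree i) = _
          have : (ν - Finsupp.single i 1).degree = m := by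
            have h5 : ν.degree = (ν - Finsupp.single i 1).degree + 1 := by
              conv_lhs => rw [← tsub_add_cancel_of_le hle]
              rw [map_add, Finsupp.degree_single]
            omega
          rw [this]
        · rfl
    simp only [sub_mul, Finset.sum_sub_distrib, map_sub]
    rw [hG, hXU, hCU]
    simp only [e, coeff_sub, coeff_add, coeff_form, if_true]
    ring
  rw [key]
  exact Ideal.sub_mem _ (Ideal.sum_mem _ fun j _ => Ideal.mul_mem_right _ _ (hPK j))
    (Ideal.sum_mem _ fun i _ => Ideal.mul_mem_right _ _ (Ideal.subset_span ⟨i, rfl⟩))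

end Ring

/-- A trivial square zero extension by a flat module is flat. -/
theorem flat_trivSqZeroExt {M : Type v} [AddCommGroup M] [Module Λ M] [Module.Flat Λ M]
    [Module Λᵐᵒᵖ M] [IsCentralScalar Λ M] :
    Module.Flat Λ (TrivSqZeroExt Λ M) := by
  refine Module.Flat.of_forall_isTrivialRelation fun {l f x} h => ?_
  have h1 : ∑ i, f i • (x i).fst = 0 := by
    simpa [TrivSqZeroExt.fst_sum] using congrArg TrivSqZeroExt.fst h
  have h2 : ∑ i, f i • (x i).snd = 0 := by
    simpa [TrivSqZeroExt.snd_sum] using congrArg TrivSqZeroExt.snd h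
  obtain ⟨k₁, A₁, y₁, hy₁, hA₁⟩ := Module.Flat.isTrivialRelation_of_sum_smul_eq_zero h1
  obtain ⟨k₂, A₂, y₂, hy₂, hA₂⟩ := Module.Flat.isTrivialRelation_of_sum_smul_eq_zero h2
  refine ⟨k₁ + k₂, fun i => Fin.append (A₁ i) (A₂ i),
    Fin.append (fun j => TrivSqZeroExt.inl (y₁ j)) (fun j => TrivSqZeroExt.inr (y₂ j)), fun i => ?_, ?_⟩
  · refine TrivSqZeroExt.ext ?_ ?_
    · simp [TrivSqZeroExt.fst_sum, Fin.sum_univ_add, hy₁ i]
    · simp [TrivSqZeroExt.snd_sum, Fin.sum_univ_add, hy₂ i]
  · exact Fin.addCases (fun j => by simpa using hA₁ j) (fun j => by simpa using hA₂ j)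

/-- The shift by the `i`-th variable. -/
noncomputable def shiftVar {M : Type*} [Zero M] (i : Fin r) (h : (Fin r →₀ ℕ) → M) (ν : Fin r →₀ ℕ) : M :=
  if 1 ≤ ν i then h (ν - Finsupp.single i 1) else 0

/-- The same for a flat module of coefficients. -/
theorem exists_eq_sum_shift [IsNoetherianRing Λ] {M : Type v} [AddCommGroup M] [Module Λ M] [Module.Flat Λ M]
    (g : (Fin r →₀ ℕ) → M)
    (hg : ∀ n, ∑ k ∈ Finset.range n, ∑ μ ∈ degSet r k, monVal a μ • g μ ∈
      Ideal.span (Set.range a) ^ n • (⊤ : Submodule Λ M)) :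
    ∃ h : Fin r → (Fin r →₀ ℕ) → M, ∀ ν, g ν = ∑ i, (shiftVar i (h i) ν - a i • h i ν) := by
  letI : Module Λᵐᵒᵖ M := Module.compHom M ((RingHom.id Λ).fromOpposite mul_comm)
  haveI : IsCentralScalar Λ M := ⟨fun _ _ => rfl⟩
  let R := TrivSqZeroExt Λ M
  haveI : Module.Flat Λ R := flat_trivSqZeroExt
  let G : MvPowerSeries (Fin r) R := fun ν => TrivSqZeroExt.inr (g ν)
  have hG : ∀ n, ∑ k ∈ Finset.range n, ∑ μ ∈ degSet r k, monVal a μ • MvPowerSeries.coeff μ G ∈
      (Ideal.span (Set.range a) ^ n).map (algebraMap Λ R) := fun n => by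
    have h1 : ∑ k ∈ Finset.range n, ∑ μ ∈ degSet r k, monVal a μ • MvPowerSeries.coeff μ G =
        (TrivSqZeroExt.inrHom Λ M).restrictScalars Λ
          (∑ k ∈ Finset.range n, ∑ μ ∈ degSet r k, monVal a μ • g μ) := by
      simp only [map_sum, map_smul]
      rfl
    rw [h1]
    refine Submodule.smul_induction_on (hg n) (fun c hc m _ => ?_) fun x y hx hy => ?_
    · rw [map_smul, Algebra.smul_def]
      exact Ideal.mul_mem_right _ _ (Ideal.mem_map_of_mem _ hc)
    · rw [map_add]
      exact add_mem hx hy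
  obtain ⟨c, hc⟩ := (Submodule.mem_span_range_iff_exists_fun _).1 (mem_span_X_sub_C a G hG)
  refine ⟨fun i ν => (MvPowerSeries.coeff ν (c i)).snd, fun ν => ?_⟩
  have h2 := congrArg (fun F => TrivSqZeroExt.snd (MvPowerSeries.coeff ν F)) hc
  refine ((TrivSqZeroExt.snd_inr Λ (g ν)).symm.trans h2.symm).trans ?_
  simp only [map_sum, smul_eq_mul, TrivSqZeroExt.snd_sum]
  refine Finset.sum_congr rfl fun i _ => ?_
  rw [mul_comm, sub_mul, map_sub, TrivSqZeroExt.snd_sub, MvPowerSeries.coeff_C_mul, MvPowerSeries.X_def,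
    MvPowerSeries.coeff_monomial_mul, ← Algebra.smul_def, TrivSqZeroExt.snd_smul, one_mul]
  congr 1
  rw [shiftVar]
  by_cases h : 1 ≤ ν i
  · rw [if_pos h, if_pos (Finsupp.single_le_iff.2 h)]
  · rw [if_neg h, if_neg (fun h' => h (Finsupp.single_le_iff.1 h')), TrivSqZeroExt.snd_zero]

end Groth.Agent.ProEtDCLib
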