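import Groth.Agent.ProEtDCLib.Sheaf
import Groth.Agent.ProEtDCLib.Series
import Groth.Agent.ProEtDCLib.Eval

/-!
# Maps out of the completed constant sheaf
-/

set_option autoImplicit false
set_option linter.style.haveILetI false
set_option backward.isDefEq.respectTransparency false
set_option backward.isDefEq.respectTransparency.types false
set_option maxHeartbeats 1000000
universe u

namespace Groth.Agent.ProEtDCLib

open CategoryTheory Limits AlgebraicGeometry Opposite

variable {Λ : Type (u + 1)} [CommRing Λ] {X : Scheme.{u}}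

/-- The terminal object of the pro-étale site. -/
noncomputable def topTerminal (X : Scheme.{u}) : IsTerminal (ProEtS.topP X) :=
  IsTerminal.ofUniqueHom (fun U => MorphismProperty.Over.homMk U.hom (Category.comp_id _)) fun U m => by
    refine (Scheme.ProEt.forget X ⋙ Over.forget X).map_injective ?_
    show m.left = U.hom
    exact (Category.comp_id _).symm.trans (MorphismProperty.Over.w m)

/-- Constant sheaves. -/
noncomputable abbrev ctFun (Λ : Type (u + 1)) [CommRing Λ] (X : Scheme.{u}) :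
    ModuleCat.{u + 1} Λ ⥤ EtModW.ModP Λ X :=
  constantSheaf (Scheme.ProEt.topology X) (ModuleCat.{u + 1} Λ)

noncomputable abbrev topSec (Λ : Type (u + 1)) [CommRing Λ] (X : Scheme.{u}) :
    EtModW.ModP Λ X ⥤ ModuleCat.{u + 1} Λ :=
  (sheafSections _ _).obj (op (ProEtS.topP X))

noncomputable def ctAdj (Λ : Type (u + 1)) [CommRing Λ] (X : Scheme.{u}) : ctFun Λ X ⊣ topSec Λ X :=
  constantSheafAdj _ _ (topTerminal X)

theorem ctHomEquiv_comp {M : ModuleCat.{u + 1} Λ} {F G : EtModW.ModP Λ X}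
    (g : (ctFun Λ X).obj M ⟶ F) (φ : F ⟶ G) (m : M) :
    ((ctAdj Λ X).homEquiv M G (g ≫ φ)).hom m =
      (φ.hom.app (op (ProEtS.topP X))).hom (((ctAdj Λ X).homEquiv M F g).hom m) := by
  rw [Adjunction.homEquiv_naturality_right]
  rfl

theorem ctHomEquiv_smul {M : ModuleCat.{u + 1} Λ} {F : EtModW.ModP Λ X} (g : (ctFun Λ X).obj M ⟶ F) (c : Λ) :
    (ctAdj Λ X).homEquiv M F (c • g) = c • (ctAdj Λ X).homEquiv M F g := by
  ext m
  rw [show c • g = g ≫ (c • 𝟙 F) by rw [Linear.comp_smul, Category.comp_id], ctHomEquiv_comp]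
  rfl

theorem ctFun_map_smul {M N : ModuleCat.{u + 1} Λ} (k : M ⟶ N) (c : Λ) :
    (ctFun Λ X).map (c • k) = c • (ctFun Λ X).map k := by
  refine ((ctAdj Λ X).homEquiv _ _).injective ?_
  rw [ctHomEquiv_smul]
  have h1 := (ctAdj Λ X).homEquiv_naturality_left (c • k) (𝟙 ((ctFun Λ X).obj N))
  have h2 := (ctAdj Λ X).homEquiv_naturality_left k (𝟙 ((ctFun Λ X).obj N))
  rw [Category.comp_id] at h1 h2
  rw [h1, h2, Linear.smul_comp]

instance : (topSec Λ X).Additive where
  map_add := by intros; rfl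

instance ctFun_additive : (ctFun Λ X).Additive := (ctAdj Λ X).left_adjoint_additive

theorem exact_ctFun {S : ShortComplex (ModuleCat.{u + 1} Λ)} (hS : S.Exact) :
    (S.map (ctFun Λ X)).Exact := by
  haveI : (ctFun Λ X).IsLeftAdjoint := (ctAdj Λ X).isLeftAdjoint
  haveI : PreservesFiniteColimits (ctFun Λ X) :=
    PreservesColimitsOfSize.preservesFiniteColimits.{0, 0} _
  haveI : PreservesFiniteLimits (ctFun Λ X) := by
    unfold ctFun constantSheaf
    exact comp_preservesFiniteLimits _ _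
  exact hS.map _

section Sections

variable (W : X.ProEt)

/-- Sections of constant sheaves over `W`, as a functor. -/
noncomputable def ctMap {M N : Type (u + 1)} [AddCommGroup M] [Module Λ M] [AddCommGroup N] [Module Λ N]
    (k : M →ₗ[Λ] N) : ((ctFun Λ X).obj (ModuleCat.of Λ M)).obj.obj (op W) →ₗ[Λ]
      ((ctFun Λ X).obj (ModuleCat.of Λ N)).obj.obj (op W) :=
  (((ctFun Λ X).map (ModuleCat.ofHom k)).hom.app (op W)).hom

variable {M N P : Type (u + 1)} [AddCommGroup M] [Module Λ M] [AddCommGroup N] [Module Λ N]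
  [AddCommGroup P] [Module Λ P]

theorem ctMap_comp (k : M →ₗ[Λ] N) (l : N →ₗ[Λ] P) (x) :
    ctMap W (l.comp k) x = ctMap W l (ctMap W k x) := by
  unfold ctMap
  rw [ModuleCat.ofHom_comp, Functor.map_comp]
  rfl

theorem ctMap_id (x) : ctMap W (LinearMap.id : M →ₗ[Λ] M) x = x := by
  unfold ctMap
  rw [show ModuleCat.ofHom (LinearMap.id : M →ₗ[Λ] M) = 𝟙 _ from rfl, CategoryTheory.Functor.map_id]
  rfl

theorem ctMap_add (k l : M →ₗ[Λ] N) : ctMap W (k + l) = ctMap W k + ctMap W l := by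
  unfold ctMap
  rw [show ModuleCat.ofHom (k + l) = ModuleCat.ofHom k + ModuleCat.ofHom l from rfl, Functor.map_add]
  rfl

theorem ctMap_smul (c : Λ) (k : M →ₗ[Λ] N) : ctMap W (c • k) = c • ctMap W k := by
  unfold ctMap
  rw [show ModuleCat.ofHom (c • k) = c • ModuleCat.ofHom k from rfl, ctFun_map_smul]
  rfl

theorem ctMap_sum {ι : Type*} (s : Finset ι) (k : ι → M →ₗ[Λ] N) :
    ctMap W (∑ i ∈ s, k i) = ∑ i ∈ s, ctMap W (k i) :=
  map_sum (AddMonoidHom.mk' (ctMap W) (ctMap_add W)) k s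

theorem ctMap_zero : ctMap W (0 : M →ₗ[Λ] N) = 0 :=
  map_zero (AddMonoidHom.mk' (ctMap W) (ctMap_add W))

variable {W} (hW : ProEtS.IsWC W)
include hW

theorem exact_ctMap {k : M →ₗ[Λ] N} {l : N →ₗ[Λ] P} (h : Function.Exact k l) (x)
    (hx : ctMap W l x = 0) : ∃ y, ctMap W k y = x := by
  let S : ShortComplex (ModuleCat.{u + 1} Λ) :=
    ShortComplex.mk (ModuleCat.ofHom k) (ModuleCat.ofHom l) (ModuleCat.hom_ext (LinearMap.ext h.apply_apply_eq_zero))
  have hS : S.Exact := (ShortComplex.moduleCat_exact_iff S).2 fun z hz => (h z).1 hz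
  exact ProEtFull.exists_app_eq_of_exact (exact_ctFun hS) hW x hx

theorem surjective_ctMap {k : M →ₗ[Λ] N} (h : Function.Surjective k) : Function.Surjective (ctMap W k) := by
  haveI : (ctFun Λ X).IsLeftAdjoint := (ctAdj Λ X).isLeftAdjoint
  haveI : Epi (ModuleCat.ofHom k) := (ModuleCat.epi_iff_surjective _).2 h
  haveI : Epi ((ctFun Λ X).map (ModuleCat.ofHom k)) := inferInstance
  exact ProEtFull.surjective_of_epi ((ctFun Λ X).map (ModuleCat.ofHom k)) hW

/-- Sections of the constant sheaf `Λ` on a weakly contractible object are flat. -/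
theorem flat_ct [IsNoetherianRing Λ] :
    Module.Flat Λ (((ctFun Λ X).obj (ModuleCat.of Λ Λ)).obj.obj (op W)) := by
  classical
  refine Module.Flat.of_forall_isTrivialRelation fun {l f x} h => ?_
  let L : (Fin l → Λ) →ₗ[Λ] Λ := ∑ i, f i • LinearMap.proj i
  obtain ⟨k, Y, hY⟩ := Submodule.fg_iff_exists_fin_generating_family.1
    (IsNoetherian.noetherian (LinearMap.ker L) : (LinearMap.ker L).FG)
  let B : (Fin k → Λ) →ₗ[Λ] (Fin l → Λ) := Fintype.linearCombination Λ Y
  have hex : Function.Exact B L := by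
    refine LinearMap.exact_iff.2 ?_
    rw [← hY]
    exact (Fintype.range_linearCombination (R := Λ) (v := Y)).symm
  let sing : ∀ i : Fin l, Λ →ₗ[Λ] (Fin l → Λ) := fun i => LinearMap.single Λ (fun _ => Λ) i
  let singk : ∀ j : Fin k, Λ →ₗ[Λ] (Fin k → Λ) := fun j => LinearMap.single Λ (fun _ => Λ) j
  let xb := ∑ i, ctMap W (sing i) (x i)
  have h0 : ctMap W L xb = 0 := by
    rw [map_sum, ← h]
    refine Finset.sum_congr rfl fun i _ => ?_
    rw [← ctMap_comp]
    have : L.comp (sing i) = f i • LinearMap.id := LinearMap.ext_ring <| by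
      simp [L, sing, Pi.single_apply]
    rw [this, ctMap_smul, LinearMap.smul_apply, ctMap_id]
  obtain ⟨y, hy⟩ := exact_ctMap hW hex xb h0
  refine ⟨k, fun i j => Y j i, fun j => ctMap W (LinearMap.proj j) y, fun i => ?_, fun j => ?_⟩
  · have h1 : ctMap W (LinearMap.proj i) xb = x i := by
      rw [map_sum, Finset.sum_eq_single i]
      · rw [← ctMap_comp, show (LinearMap.proj i).comp (sing i) = LinearMap.id from
          LinearMap.ext_ring (by simp [sing]), ctMap_id]
      · intro i' _ hne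
        rw [← ctMap_comp, show (LinearMap.proj i).comp (sing i') = 0 from
          LinearMap.ext_ring (by simp [sing, hne.symm]), ctMap_zero, LinearMap.zero_apply]
      · simp
    have hid : y = ∑ j, ctMap W (singk j) (ctMap W (LinearMap.proj j) y) := by
      conv_lhs => rw [← ctMap_id W y, show (LinearMap.id : (Fin k → Λ) →ₗ[Λ] _) =
        ∑ j, (singk j).comp (LinearMap.proj j) from
        LinearMap.ext fun v => funext fun j => by simp [singk, Pi.single_apply], ctMap_sum, LinearMap.sum_apply]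
      exact Finset.sum_congr rfl fun j _ => ctMap_comp W _ _ _
    rw [← h1, ← hy, ← ctMap_comp]
    conv_lhs => rw [hid, map_sum]
    refine Finset.sum_congr rfl fun j _ => ?_
    rw [← ctMap_comp W (singk j), show ((LinearMap.proj i).comp B).comp (singk j) = Y j i • LinearMap.id from
      LinearMap.ext_ring (by simp [B, singk, Fintype.linearCombination_apply, Pi.single_apply, ite_apply]),
      ctMap_smul, LinearMap.smul_apply, ctMap_id]
  · have : L (Y j) = 0 := LinearMap.mem_ker.1 (hY ▸ Submodule.subset_span ⟨j, rfl⟩)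
    simpa [L] using this

/-- The kernel of `Λ → Λ / I ^ n` on sections. -/
theorem mem_of_ctMap_mkQ_eq_zero [IsNoetherianRing Λ] (I : Ideal Λ) (n : ℕ) (x)
    (hx : ctMap W (I ^ n • (⊤ : Submodule Λ Λ)).mkQ x = 0) :
    x ∈ I ^ n • (⊤ : Submodule Λ (((ctFun Λ X).obj (ModuleCat.of Λ Λ)).obj.obj (op W))) := by
  classical
  have he : (I ^ n • (⊤ : Submodule Λ Λ)) = I ^ n := Ideal.mul_top _
  obtain ⟨m, b, hb⟩ := Submodule.fg_iff_exists_fin_generating_family.1
    (IsNoetherian.noetherian (I ^ n) : (I ^ n).FG)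
  let B : (Fin m → Λ) →ₗ[Λ] Λ := Fintype.linearCombination Λ b
  have hex : Function.Exact B (I ^ n • (⊤ : Submodule Λ Λ)).mkQ := by
    refine LinearMap.exact_iff.2 ?_
    rw [Submodule.ker_mkQ, Fintype.range_linearCombination, hb, he]
  obtain ⟨y, rfl⟩ := exact_ctMap hW hex x hx
  have : B = ∑ j, b j • LinearMap.proj j := LinearMap.ext fun v => by
    simp [B, Fintype.linearCombination_apply, mul_comm]
  rw [this, ctMap_sum, LinearMap.sum_apply]
  refine Submodule.sum_mem _ fun j _ => ?_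
  rw [ctMap_smul, LinearMap.smul_apply]
  exact Submodule.smul_mem_smul (hb ▸ Submodule.subset_span ⟨j, rfl⟩) trivial

omit hW in
theorem ctMap_mkQ_eq_zero_of_mem (I : Ideal Λ) (n : ℕ) (x)
    (hx : x ∈ I ^ n • (⊤ : Submodule Λ (((ctFun Λ X).obj (ModuleCat.of Λ Λ)).obj.obj (op W)))) :
    ctMap W (I ^ n • (⊤ : Submodule Λ Λ)).mkQ x = 0 := by
  refine Submodule.smul_induction_on hx (fun c hc z _ => ?_) fun y z hy hz => by rw [map_add, hy, hz, add_zero]
  have : c • (I ^ n • (⊤ : Submodule Λ Λ)).mkQ = 0 := LinearMap.ext fun v => by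
    show c • (Submodule.Quotient.mk v : Λ ⧸ (I ^ n • (⊤ : Submodule Λ Λ))) = 0
    rw [← Submodule.Quotient.mk_smul, Submodule.Quotient.mk_eq_zero]
    exact Submodule.smul_mem_smul hc trivial
  rw [map_smul, ← LinearMap.smul_apply, ← ctMap_smul, this, ctMap_zero, LinearMap.zero_apply]

end Sections

section Monomials

variable {r : ℕ} (a : Fin r → Λ)

theorem monVal_mem (μ : Fin r →₀ ℕ) : monVal a μ ∈ Ideal.span (Set.range a) ^ μ.degree := by
  unfold monVal
  rw [Finsupp.degree_eq_sum, ← Finset.prod_pow_eq_pow_sum]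
  refine Ideal.prod_mem_prod fun i _ => Ideal.pow_mem_pow ?_ _
  exact Ideal.subset_span ⟨i, rfl⟩

theorem monVal_add_single (μ : Fin r →₀ ℕ) (i : Fin r) :
    monVal a (μ + Finsupp.single i 1) = a i * monVal a μ := by
  unfold monVal
  simp only [Finsupp.add_apply, pow_add, Finset.prod_mul_distrib]
  rw [mul_comm]
  congr 1
  rw [Finset.prod_eq_single i (fun j _ h => by simp [h]) (by simp)]
  simp

/-- Degree `n` combinations. -/
noncomputable def monSum (n : ℕ) (M : Type (u + 1)) [AddCommGroup M] [Module Λ M] :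
    ((Fin r →₀ ℕ) → M) →ₗ[Λ] M :=
  ∑ μ ∈ degSet r n, monVal a μ • LinearMap.proj μ

theorem monSum_apply (n : ℕ) {M : Type (u + 1)} [AddCommGroup M] [Module Λ M] (c : (Fin r →₀ ℕ) → M) :
    monSum a n M c = ∑ μ ∈ degSet r n, monVal a μ • c μ := by
  simp [monSum]

theorem mem_range_monSum {M : Type (u + 1)} [AddCommGroup M] [Module Λ M] :
    ∀ (n : ℕ), Ideal.span (Set.range a) ^ n • (⊤ : Submodule Λ M) ≤ LinearMap.range (monSum a n M) := by
  classical
  have hgen : ∀ (n : ℕ) (μ : Fin r →₀ ℕ), μ.degree = n → ∀ m : M,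
      monVal a μ • m ∈ LinearMap.range (monSum a n M) := fun n μ hμ m => by
    refine ⟨Pi.single μ m, ?_⟩
    rw [monSum_apply, Finset.sum_eq_single μ (fun ν _ h => by simp [h]) (fun h => absurd (mem_degSet.2 hμ) h)]
    simp
  intro n
  induction n with
  | zero =>
    intro m _
    simpa [monVal] using hgen 0 0 (map_zero _) m
  | succ n ih =>
    rw [pow_succ', Submodule.mul_smul]
    refine (Submodule.smul_mono le_rfl ih).trans ?_
    rw [Submodule.smul_le]
    rintro c hc _ ⟨e, rfl⟩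
    obtain ⟨d, rfl⟩ := (Submodule.mem_span_range_iff_exists_fun Λ).1 hc
    rw [Finset.sum_smul]
    refine Submodule.sum_mem _ fun i _ => ?_
    rw [monSum_apply, Finset.smul_sum]
    refine Submodule.sum_mem _ fun μ hμ => ?_
    rw [smul_eq_mul, mul_smul, ← mul_smul (a i) (monVal a μ), ← monVal_add_single, smul_comm]
    exact hgen _ _ (by rw [map_add, Finsupp.degree_single, mem_degSet.1 hμ]) _

end Monomials

section Present

variable {r : ℕ} (a : Fin r → Λ)

/-- The completed constant sheaf of the ideal spanned by `a`. -/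
noncomputable abbrev LH : EtModW.ModP Λ X := ProEtDC.lambdaHat Λ X (Ideal.span (Set.range a))

/-- The leg of the evaluation of power series in the completion. -/
noncomputable def evLeg (n : ℕ) : psObj r ((ctFun Λ X).obj (ModuleCat.of Λ Λ)) ⟶
    (ProEtDC.quotTower Λ (Ideal.span (Set.range a)) ⋙ ctFun Λ X).obj (op n) :=
  ∑ k ∈ Finset.range n, ∑ μ ∈ degSet r k, monVal a μ •
    (psπ _ μ ≫ (ctFun Λ X).map (ModuleCat.ofHom (Ideal.span (Set.range a) ^ n • (⊤ : Submodule Λ Λ)).mkQ))

theorem evLeg_comp {m n : ℕ} (h : m ≤ n) :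
    evLeg (X := X) a n ≫ (ProEtDC.quotTower Λ (Ideal.span (Set.range a)) ⋙ ctFun Λ X).map (homOfLE h).op =
      evLeg a m := by
  let I := Ideal.span (Set.range a)
  have h1 : ModuleCat.ofHom (I ^ n • (⊤ : Submodule Λ Λ)).mkQ ≫ (ProEtDC.quotTower Λ I).map (homOfLE h).op =
      ModuleCat.ofHom (I ^ m • (⊤ : Submodule Λ Λ)).mkQ :=
    ModuleCat.hom_ext (LinearMap.ext fun v => rfl)
  unfold evLeg
  simp only [Preadditive.sum_comp, Linear.smul_comp, Category.assoc, Functor.comp_map]
  have h2 : (ctFun Λ X).map (ModuleCat.ofHom (I ^ n • (⊤ : Submodule Λ Λ)).mkQ) ≫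
      (ctFun Λ X).map ((ProEtDC.quotTower Λ I).map (homOfLE h).op) =
      (ctFun Λ X).map (ModuleCat.ofHom (I ^ m • (⊤ : Submodule Λ Λ)).mkQ) := by
    rw [← Functor.map_comp, h1]
  rw [h2]
  symm
  refine Finset.sum_subset (Finset.range_mono h) fun k _ hk => Finset.sum_eq_zero fun μ hμ => ?_
  rw [← Linear.comp_smul, ← ctFun_map_smul]
  have : monVal a μ • ModuleCat.ofHom (I ^ m • (⊤ : Submodule Λ Λ)).mkQ = 0 := by
    refine ModuleCat.hom_ext (LinearMap.ext fun v => ?_)
    show monVal a μ • (Submodule.Quotient.mk v : Λ ⧸ (I ^ m • (⊤ : Submodule Λ Λ))) = 0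
    rw [← Submodule.Quotient.mk_smul, Submodule.Quotient.mk_eq_zero]
    refine Submodule.smul_mem_smul ?_ trivial
    refine Ideal.pow_le_pow_right ?_ (monVal_mem a μ)
    rw [mem_degSet.1 hμ]
    simpa using hk
  rw [this, Functor.map_zero, comp_zero]

/-- Evaluation of power series in the completion. -/
noncomputable def evHat : psObj r ((ctFun Λ X).obj (ModuleCat.of Λ Λ)) ⟶ LH a :=
  limit.lift _ ⟨_, { app := fun n => evLeg a n.unop
                     naturality := fun n m g => by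
                       obtain ⟨n⟩ := n
                       obtain ⟨m⟩ := m
                       rw [show g = (homOfLE (leOfHom g.unop)).op from Subsingleton.elim _ _]
                       exact (Category.id_comp _).trans (evLeg_comp a _).symm }⟩

theorem puSec_sum {U : X.ProEt} {F : EtModW.ModP Λ X} {ι : Type*} (s : Finset ι) (g : ι → (PU U ⟶ F)) :
    puSec U (∑ i ∈ s, g i) = ∑ i ∈ s, puSec U (g i) :=
  map_sum (puAddEquiv U F) g s

theorem puSec_evHat (W : X.ProEt) (x : PU (Λ := Λ) W ⟶ psObj r ((ctFun Λ X).obj (ModuleCat.of Λ Λ))) (n : ℕ) :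
    puSec W (x ≫ evHat a ≫ limit.π _ (op n)) =
      ctMap W (Ideal.span (Set.range a) ^ n • (⊤ : Submodule Λ Λ)).mkQ
        (∑ k ∈ Finset.range n, ∑ μ ∈ degSet r k, monVal a μ • puSec W (x ≫ psπ _ μ)) := by
  rw [evHat, limit.lift_π]
  show puSec W (x ≫ evLeg a n) = _
  simp only [evLeg, Preadditive.comp_sum, puSec_sum, map_sum, map_smul, Linear.comp_smul, puSec_smul]
  refine Finset.sum_congr rfl fun k _ => Finset.sum_congr rfl fun μ _ => ?_
  rw [← Category.assoc, puSec_comp]
  rfl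

variable [IsNoetherianRing Λ]

theorem exists_evHat_preimage {W : X.ProEt} (hW : ProEtS.IsWC W) (y : PU (Λ := Λ) W ⟶ LH a) :
    ∃ x : PU (Λ := Λ) W ⟶ psObj r ((ctFun Λ X).obj (ModuleCat.of Λ Λ)), x ≫ evHat a = y := by
  let I := Ideal.span (Set.range a)
  choose z hz using fun n : ℕ =>
    surjective_ctMap hW (Submodule.mkQ_surjective (I ^ n • (⊤ : Submodule Λ Λ))) (puSec W (y ≫ limit.π _ (op n)))
  let R := ((ctFun Λ X).obj (ModuleCat.of Λ Λ)).obj.obj (op W)
  let rr : ℕ → R := fun n => n.casesOn 0 fun m => z (m + 1)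
  have hrr : ∀ n, ctMap W (I ^ n • (⊤ : Submodule Λ Λ)).mkQ (rr n) = puSec W (y ≫ limit.π _ (op n)) := fun n => by
    cases n with
    | zero =>
      show ctMap W _ 0 = _
      rw [map_zero, ← hz 0]
      symm
      refine ctMap_mkQ_eq_zero_of_mem I 0 _ ?_
      rw [pow_zero, Ideal.one_eq_top, Submodule.top_smul]
      trivial
    | succ m => exact hz (m + 1)
  have hd : ∀ n, rr (n + 1) - rr n ∈ I ^ n • (⊤ : Submodule Λ R) := fun n => by
    refine mem_of_ctMap_mkQ_eq_zero hW I n _ ?_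
    rw [map_sub, hrr n, sub_eq_zero]
    have h1 : (I ^ n • (⊤ : Submodule Λ Λ)).mkQ =
        (Submodule.factorPow I Λ (Nat.le_succ n)).comp (I ^ (n + 1) • (⊤ : Submodule Λ Λ)).mkQ :=
      LinearMap.ext fun v => rfl
    rw [h1, ctMap_comp, hrr (n + 1)]
    rw [← limit.w (ProEtDC.quotTower Λ I ⋙ ctFun Λ X) (homOfLE (Nat.le_succ n)).op, ← Category.assoc, puSec_comp]
    rfl
  choose c hc using fun n => mem_range_monSum a n (hd n)
  let g : (Fin r →₀ ℕ) → R := fun μ => c μ.degree μ
  refine ⟨Pi.lift fun μ => puHom W _ (g μ), limit.hom_ext fun ⟨n⟩ => puSec_injective W ?_⟩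
  rw [Category.assoc, puSec_evHat, ← hrr n]
  congr 1
  have : ∀ k ∈ Finset.range n, ∑ μ ∈ degSet r k, monVal a μ •
      puSec W (Pi.lift (fun μ => puHom W _ (g μ)) ≫ psπ _ μ) = rr (k + 1) - rr k := fun k _ => by
    rw [← hc k, monSum_apply]
    refine Finset.sum_congr rfl fun μ hμ => ?_
    rw [Pi.lift_π, puSec_puHom]
    simp only [g, mem_degSet.1 hμ]
  rw [Finset.sum_congr rfl this, Finset.sum_range_sub]
  exact sub_zero _

instance epi_evHat : Epi (evHat (X := X) a) :=
  Preadditive.epi_of_cancel_zero _ fun {G} φ h => eq_zero_of_wc φ fun W hW s => by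
    obtain ⟨x, hx⟩ := exists_evHat_preimage a hW (puHom W _ s)
    have h1 : puHom W _ s ≫ φ = 0 := by rw [← hx, Category.assoc, h, comp_zero]
    have h2 := congrArg (puSec W) h1
    rwa [puSec_comp, puSec_puHom, puSec_zero] at h2

theorem comp_eval_eq_zero {F : EtModW.ModP Λ X} {W : X.ProEt} (hW : ProEtS.IsWC W)
    (E : psObj r ((ctFun Λ X).obj (ModuleCat.of Λ Λ)) ⟶ F) (hE : ∀ i, psMulX _ i ≫ E = a i • E)
    (x : PU (Λ := Λ) W ⟶ psObj r ((ctFun Λ X).obj (ModuleCat.of Λ Λ))) (hx : x ≫ evHat a = 0) :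
    x ≫ E = 0 := by
  haveI := flat_ct (Λ := Λ) hW
  obtain ⟨h, hh⟩ := exists_eq_sum_shift a (fun μ => puSec W (x ≫ psπ _ μ)) fun n => by
    refine mem_of_ctMap_mkQ_eq_zero hW _ n _ ?_
    rw [← puSec_evHat, ← Category.assoc, hx, zero_comp, puSec_zero]
  let A := (ctFun Λ X).obj (ModuleCat.of Λ Λ)
  let H : Fin r → (PU (Λ := Λ) W ⟶ psObj r A) := fun i => Pi.lift fun ν => puHom W _ (h i ν)
  have hs : ∀ i ν, puSec W (H i ≫ psπ A ν) = h i ν := fun i ν => by
    rw [Pi.lift_π, puSec_puHom]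
  have hxH : x = ∑ i, (H i ≫ psMulX A i - a i • H i) := Pi.hom_ext _ _ fun ν => puSec_injective W <| by
    refine (hh ν).trans ?_
    rw [Preadditive.sum_comp, puSec_sum]
    refine Finset.sum_congr rfl fun i _ => ?_
    rw [Preadditive.sub_comp, Category.assoc, psMulX_π, Linear.smul_comp, sub_eq_add_neg, sub_eq_add_neg, puSec_add]
    congr 1
    · unfold shiftVar
      split_ifs
      · exact (hs _ _).symm
      · rw [comp_zero, puSec_zero]
    · rw [← hs i ν]
      have := puAddEquiv W A |>.map_neg (a i • (H i ≫ psπ A ν))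
      exact ((this.trans (congrArg Neg.neg (puSec_smul W _ _)))).symm
  rw [hxH, Preadditive.sum_comp]
  refine Finset.sum_eq_zero fun i _ => ?_
  rw [Preadditive.sub_comp, Category.assoc, hE, Linear.comp_smul, Linear.smul_comp, sub_self]

/-- Every section of a derived complete sheaf extends over the completed constant sheaf. -/
theorem exists_hom_lambdaHat {F : EtModW.ModP Λ X}
    (hF : ProEtDC.IsDCSheaf Λ (Ideal.span (Set.range a)) F)
    (s : (ctFun Λ X).obj (ModuleCat.of Λ Λ) ⟶ F) :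
    ∃ Φ : LH a ⟶ F, (psConst r _ ≫ evHat a) ≫ Φ = s := by
  rw [isDCSheaf_iff] at hF
  obtain ⟨E, hE, hE0⟩ := exists_eval F _ s a fun k => hF _ (Ideal.subset_span ⟨k, rfl⟩)
  have hk : kernel.ι (evHat a) ≫ E = 0 := eq_zero_of_wc _ fun W hW z => by
    have h1 : (puHom W _ z ≫ kernel.ι (evHat a)) ≫ E = 0 :=
      comp_eval_eq_zero a hW E hE _ (by rw [Category.assoc, kernel.condition, comp_zero])
    have h2 := congrArg (puSec W) h1
    rwa [Category.assoc, puSec_comp, puSec_puHom, puSec_zero] at h2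
  let S : ShortComplex (EtModW.ModP Λ X) := ShortComplex.mk (kernel.ι (evHat a)) (evHat a) (kernel.condition _)
  have hS : S.Exact := ShortComplex.exact_of_f_is_kernel _ (kernelIsKernel _)
  haveI : Epi S.g := epi_evHat a
  refine ⟨hS.desc E hk, ?_⟩
  rw [Category.assoc]
  exact (congrArg (psConst r _ ≫ ·) (hS.g_desc E hk)).trans hE0

end Present

end Groth.Agent.ProEtDCLib
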