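import Groth.Prelude.Def_ProEtDC
import Groth.Agent.ProEtDCLib.ExtDC
import Groth.Agent.ProEtWC.Covers
import Groth.Agent.ProEtFull.AdicExactLim
import Mathlib.CategoryTheory.Linear.FunctorCategory

/-!
# Derived complete sheaves on the small pro-étale site
-/

set_option autoImplicit false
set_option linter.style.haveILetI false
set_option backward.isDefEq.respectTransparency false
set_option backward.isDefEq.respectTransparency.types false
set_option maxHeartbeats 1000000
universe u

namespace Groth.Agent.ProEtDCLib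

open CategoryTheory Limits AlgebraicGeometry Opposite

variable {Λ : Type (u + 1)} [CommRing Λ] {X : Scheme.{u}}

theorem smulHom_eq (F : EtModW.ModP Λ X) (a : Λ) : ProEtDC.smulHom Λ F a = a • 𝟙 F := by
  ext
  rfl

theorem hasExactFinsetColimits :
    haveI : HasColimitsOfShape (Finset (Discrete ℕ)) (EtModW.ModP Λ X) := inferInstance
    HasExactColimitsOfShape (Finset (Discrete ℕ)) (EtModW.ModP Λ X) := by
  haveI : AB5OfSize.{u + 1, u + 1} (EtModW.ModP Λ X) := IsGrothendieckAbelian.ab5OfSize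
  haveI : HasFilteredColimitsOfSize.{0, 0} (EtModW.ModP Λ X) :=
    hasFilteredColimitsOfSize_of_univLE.{0, 0, u + 1, u + 1}
  haveI : AB5OfSize.{0, 0} (EtModW.ModP Λ X) := AB5OfSize_of_univLE.{0, 0, u + 1, u + 1} _
  exact AB5OfSize.ofShape _

instance : HasExactColimitsOfShape (Finset (Discrete ℕ)) (EtModW.ModP Λ X) := hasExactFinsetColimits

section Free

variable (U : X.ProEt)

/-- Extension by zero from `U` of constant sheaves. -/
noncomputable abbrev freeFun : ModuleCat.{u + 1} Λ ⥤ EtModW.ModP Λ X :=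
  constantSheaf ((Scheme.ProEt.topology X).over U) (ModuleCat.{u + 1} Λ) ⋙ ProEtDC.extZeroModP Λ U

/-- Sections over `U`. -/
noncomputable abbrev secFun : EtModW.ModP Λ X ⥤ ModuleCat.{u + 1} Λ :=
  (Over.forget U).sheafPushforwardContinuous (ModuleCat.{u + 1} Λ) ((Scheme.ProEt.topology X).over U)
    (Scheme.ProEt.topology X) ⋙ (sheafSections _ _).obj (op (Over.mk (𝟙 U)))

noncomputable def freeAdj : freeFun U ⊣ secFun (Λ := Λ) U :=
  (constantSheafAdj _ _ Over.mkIdTerminal).comp
    ((Over.forget U).sheafAdjunctionContinuous (ModuleCat.{u + 1} Λ) ((Scheme.ProEt.topology X).over U)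
      (Scheme.ProEt.topology X))

/-- The sheaf representing sections over `U`. -/
noncomputable abbrev PU : EtModW.ModP Λ X := ProEtDC.extZeroModP Λ U |>.obj (ProEtDC.constOverP Λ U Λ)

/-- A map `PU U ⟶ F` from a section. -/
noncomputable def puHom (F : EtModW.ModP Λ X) (s : F.obj.obj (op U)) : PU U ⟶ F :=
  ((freeAdj U).homEquiv (ModuleCat.of Λ Λ) F).symm (ModuleCat.ofHom (LinearMap.toSpanSingleton Λ (secFun (Λ := Λ) U |>.obj F) s))

/-- The section of a map `PU U ⟶ F`. -/
noncomputable def puSec {F : EtModW.ModP Λ X} (g : PU U ⟶ F) : F.obj.obj (op U) :=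
  ((freeAdj U).homEquiv (ModuleCat.of Λ Λ) F g).hom (1 : Λ)

theorem homEquiv_comp {M : ModuleCat.{u + 1} Λ} {F G : EtModW.ModP Λ X}
    (g : (freeFun U).obj M ⟶ F) (φ : F ⟶ G) (m : M) :
    ((freeAdj U).homEquiv M G (g ≫ φ)).hom m =
      (φ.hom.app (op U)).hom (((freeAdj U).homEquiv M F g).hom m) := by
  rw [Adjunction.homEquiv_naturality_right]
  rfl

theorem homEquiv_map {M N : ModuleCat.{u + 1} Λ} {F : EtModW.ModP Λ X} (k : M ⟶ N)
    (g : (freeFun U).obj N ⟶ F) :
    (freeAdj U).homEquiv M F ((freeFun U).map k ≫ g) = k ≫ (freeAdj U).homEquiv N F g :=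
  (freeAdj U).homEquiv_naturality_left k g

theorem homEquiv_smul {M : ModuleCat.{u + 1} Λ} {F : EtModW.ModP Λ X} (g : (freeFun U).obj M ⟶ F) (a : Λ) :
    (freeAdj U).homEquiv M F (a • g) = a • (freeAdj U).homEquiv M F g := by
  ext m
  rw [show a • g = g ≫ (a • 𝟙 F) by rw [Linear.comp_smul, Category.comp_id], homEquiv_comp]
  rfl

theorem puSec_puHom (F : EtModW.ModP Λ X) (s : F.obj.obj (op U)) : puSec U (puHom U F s) = s := by
  unfold puSec puHom
  rw [Equiv.apply_symm_apply]
  exact one_smul Λ s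

theorem puSec_injective {F : EtModW.ModP Λ X} {g h : PU U ⟶ F} (e : puSec U g = puSec U h) : g = h := by
  refine ((freeAdj U).homEquiv (ModuleCat.of Λ Λ) F).injective (ModuleCat.hom_ext (LinearMap.ext_ring ?_))
  exact e

theorem puSec_comp {F G : EtModW.ModP Λ X} (g : PU U ⟶ F) (φ : F ⟶ G) :
    puSec U (g ≫ φ) = (φ.hom.app (op U)).hom (puSec U g) := homEquiv_comp U g φ 1

theorem puSec_smul {F : EtModW.ModP Λ X} (g : PU U ⟶ F) (a : Λ) : puSec U (a • g) = a • puSec U g := by
  unfold puSec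
  rw [homEquiv_smul]
  rfl

theorem puSec_zero (F : EtModW.ModP Λ X) : puSec U (0 : PU U ⟶ F) = 0 := by
  have := puSec_smul U (0 : PU (Λ := Λ) U ⟶ F) 0
  rwa [smul_zero, zero_smul] at this

theorem puSec_add {F : EtModW.ModP Λ X} (g h : PU U ⟶ F) : puSec U (g + h) = puSec U g + puSec U h := by
  have e : g + h = biprod.lift (𝟙 _) (𝟙 _) ≫ biprod.desc g h := by simp [biprod.lift_desc]
  obtain ⟨k, hk⟩ : ∃ k : PU U ⟶ F, puSec U k = puSec U g + puSec U h := ⟨_, puSec_puHom U F _⟩
  let G' := (freeAdj U).homEquiv (ModuleCat.of Λ Λ) F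
  haveI : (secFun (Λ := Λ) U).Additive := { map_add := by intros; rfl }
  show ((freeAdj U).homEquiv _ F (g + h)).hom (1 : Λ) = _
  rw [Adjunction.homEquiv_unit, Functor.map_add, Preadditive.comp_add, ← Adjunction.homEquiv_unit,
    ← Adjunction.homEquiv_unit]
  rfl

/-- Sections as maps from `PU U`. -/
noncomputable def puAddEquiv (F : EtModW.ModP Λ X) : (PU U ⟶ F) ≃+ F.obj.obj (op U) where
  toFun := puSec U
  invFun := puHom U F
  left_inv _ := puSec_injective U (puSec_puHom U F _)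
  right_inv := puSec_puHom U F
  map_add' := puSec_add U

theorem dBij_pu_iff (f : Λ) (F : EtModW.ModP Λ X) :
    DBij (preSmul f (PU U) F) ↔ DBij (smulEnd (F.obj.obj (op U)) f) := by
  have hc : ∀ a, puAddEquiv U F (preSmul f (PU U) F a) = smulEnd _ f (puAddEquiv U F a) := fun a => by
    rw [preSmul_apply]
    exact puSec_smul U a f
  exact ⟨fun h => h.of_bijective (puAddEquiv U F).toAddMonoidHom (puAddEquiv U F).bijective hc,
    fun h => DBij.of_bijective' (puAddEquiv U F).toAddMonoidHom (puAddEquiv U F).bijective hc h⟩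

theorem projective_pu (hU : ProEtS.IsWC U) : Projective (PU (Λ := Λ) U) where
  factors {E F} g e _ := by
    obtain ⟨t, ht⟩ := ProEtFull.surjective_of_epi e hU (puSec U g)
    exact ⟨puHom U E t, puSec_injective U (by rw [puSec_comp, puSec_puHom]; exact ht)⟩

end Free

/-- A map of sheaves vanishing on all weakly contractible sections vanishes. -/
theorem eq_zero_of_wc {F G : EtModW.ModP Λ X} (φ : F ⟶ G)
    (h : ∀ W : X.ProEt, ProEtS.IsWC W → ∀ s, (φ.hom.app (op W)).hom s = 0) : φ = 0 := by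
  ext ⟨U⟩ s
  obtain ⟨V, g, hg, hV⟩ := ProEtWC.exists_cover_isWC U
  let G' : Sheaf (Scheme.ProEt.topology X) (Type (u + 1)) :=
    (sheafCompose _ (forget (ModuleCat.{u + 1} Λ))).obj G
  refine ((isSheaf_iff_isSheaf_of_type _ _).1 G'.property _ hg).isSeparatedFor.ext ?_
  rintro Z f ⟨Y, a, b, ⟨⟩, rfl⟩
  show (G.obj.map (a ≫ g).op).hom ((φ.hom.app (op U)).hom s) = (G.obj.map (a ≫ g).op).hom 0
  rw [map_zero, ← NatTrans.naturality_apply, op_comp, Functor.map_comp]
  refine ((φ.hom.naturality_apply a.op _).trans ?_)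
  rw [h V hV, map_zero]

theorem isZero_of_wc {F : EtModW.ModP Λ X} (h : ∀ W : X.ProEt, ProEtS.IsWC W → Subsingleton (F.obj.obj (op W))) :
    IsZero F :=
  (IsZero.iff_id_eq_zero F).2 (eq_zero_of_wc _ fun W hW _ => @Subsingleton.elim _ (h W hW) _ _)

/-- Weakly contractible objects with a section. -/
def WCSec (F : EtModW.ModP Λ X) : Type (u + 1) := Σ W : {W : X.ProEt // ProEtS.IsWC W}, F.obj.obj (op W.1)

instance hasCoproductsOfShape (ι : Type (u + 1)) : HasColimitsOfShape (Discrete ι) (EtModW.ModP Λ X) :=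
  haveI : HasColimitsOfSize.{u + 1, u + 1} (EtModW.ModP Λ X) := inferInstance
  HasColimitsOfSize.has_colimits_of_shape _

noncomputable def coverMap (F : EtModW.ModP Λ X) : (∐ fun p : WCSec F => PU p.1.1) ⟶ F :=
  Sigma.desc fun p => puHom p.1.1 F p.2

instance epi_coverMap (F : EtModW.ModP Λ X) : Epi (coverMap F) :=
  Preadditive.epi_of_cancel_zero _ fun {G} φ h => eq_zero_of_wc φ fun W hW s => by
    have := congrArg (puSec W) (congrArg (Sigma.ι (fun p : WCSec F => PU (Λ := Λ) p.1.1) ⟨⟨W, hW⟩, s⟩ ≫ ·) h)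
    rw [coverMap, Sigma.ι_desc_assoc, puSec_comp, puSec_puHom, comp_zero, puSec_zero] at this
    exact this

theorem projective_cover (F : EtModW.ModP Λ X) : Projective (∐ fun p : WCSec F => PU (Λ := Λ) p.1.1) := by
  haveI : ∀ p : WCSec F, Projective (PU (Λ := Λ) p.1.1) := fun p => projective_pu _ p.1.2
  infer_instance

instance : EnoughProjectives (EtModW.ModP Λ X) where
  presentation F := ⟨{ p := _, projective := projective_cover F, f := coverMap F, epi := inferInstance }⟩

/-- Derived completeness can be tested on weakly contractible objects. -/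
theorem dco_iff_wc (f : Λ) (F : EtModW.ModP Λ X) :
    DCO f F ↔ ∀ W : X.ProEt, ProEtS.IsWC W → DBij (smulEnd (F.obj.obj (op W)) f) := by
  refine ⟨fun h W hW => (dBij_pu_iff W f F).1 (h _ (projective_pu W hW)), fun h Q hQ => ?_⟩
  let P : WCSec Q → EtModW.ModP Λ X := fun p => PU p.1.1
  let C := ∐ P
  have hC : DBij (preSmul f C F) := by
    let e : (C ⟶ F) →+ (∀ p, P p ⟶ F) := AddMonoidHom.pi fun p => Preadditive.leftComp F (Sigma.ι P p)
    let ψ : (∀ p, P p ⟶ F) →+ (∀ p, P p ⟶ F) :=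
      AddMonoidHom.pi fun p => (preSmul f (P p) F).comp (Pi.evalAddMonoidHom (fun p => P p ⟶ F) p)
    refine DBij.of_bijective' e ⟨fun a b hab => Sigma.hom_ext _ _ fun p => congrFun hab p,
      fun g => ⟨(Sigma.desc g : C ⟶ F), funext fun p => Sigma.ι_desc g p⟩⟩ (fun a => funext fun p => ?_) (φB := ψ)
      (dBij_pi (φ := fun p => preSmul f (P p) F) (fun x p => rfl) fun p =>
        (dBij_pu_iff p.1.1 f F).2 (h _ p.1.2))
    show Sigma.ι P p ≫ preSmul f C F a = preSmul f (P p) F (Sigma.ι P p ≫ a)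
    rw [preSmul_apply, preSmul_apply, Linear.comp_smul]
  refine hC.of_retract (Preadditive.leftComp F (coverMap Q))
    (Preadditive.leftComp F (Projective.factorThru (𝟙 Q) (coverMap Q))) (fun a => ?_) (fun a => ?_) fun a => ?_
  · show _ ≫ _ ≫ a = a
    rw [← Category.assoc, Projective.factorThru_comp, Category.id_comp]
  · show _ ≫ preSmul f Q F a = preSmul f C F (_ ≫ a)
    rw [preSmul_apply, preSmul_apply, Linear.comp_smul]
  · show _ ≫ preSmul f C F a = preSmul f Q F (_ ≫ a)
    rw [preSmul_apply, preSmul_apply, Linear.comp_smul]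

section LocExt

variable (U : X.ProEt) (f : Λ)

theorem exists_liftLoc {M : Type (u + 1)} [AddCommGroup M] [Module Λ M] (x : ℕ → M)
    (hx : ∀ n, x n = f • x (n + 1)) :
    ∃ g : Localization.Away f →ₗ[Λ] M, ∀ n, g (IsLocalization.mk' _ (1 : Λ) (⟨f ^ n, n, rfl⟩ : Submonoid.powers f)) = x n := by
  have hk : ∀ k n, x n = f ^ k • x (n + k) := by
    intro k
    induction k with
    | zero => simp
    | succ k ih => intro n; rw [ih n, hx (n + k), smul_smul, ← pow_succ]; rfl
  choose a n hmk using fun z : Localization.Away f => show ∃ (a : Λ) (n : ℕ),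
      IsLocalization.mk' _ a (⟨f ^ n, n, rfl⟩ : Submonoid.powers f) = z from by
    obtain ⟨a, ⟨s, hs⟩, e⟩ := IsLocalization.exists_mk'_eq (Submonoid.powers f) z
    obtain ⟨n, rfl⟩ := hs
    exact ⟨a, n, e⟩
  have key : ∀ (b : Λ) (m : ℕ) (c : Λ) (k : ℕ),
      (IsLocalization.mk' _ b (⟨f ^ m, m, rfl⟩ : Submonoid.powers f) : Localization.Away f) =
        IsLocalization.mk' _ c (⟨f ^ k, k, rfl⟩ : Submonoid.powers f) → b • x m = c • x k := by
    intro b m c k e
    obtain ⟨⟨_, l, rfl⟩, e'⟩ := IsLocalization.eq.1 e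
    simp only at e'
    rw [hk (k + l) m, hk (m + l) k, smul_smul, smul_smul, show m + (k + l) = k + (m + l) by omega]
    congr 1
    calc b * f ^ (k + l) = f ^ l * (f ^ k * b) := by ring
      _ = f ^ l * (f ^ m * c) := e'
      _ = c * f ^ (m + l) := by ring
  refine ⟨⟨⟨fun z => a z • x (n z), fun z w => ?_⟩, fun r z => ?_⟩, fun k => ?_⟩
  · have e : (IsLocalization.mk' _ (a z * f ^ n w + a w * f ^ n z)
        (⟨f ^ (n z + n w), n z + n w, rfl⟩ : Submonoid.powers f) : Localization.Away f) = z + w := by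
      conv_rhs => rw [← hmk z, ← hmk w, ← IsLocalization.mk'_add]
      exact congrArg _ (Subtype.ext (pow_add f _ _))
    rw [key _ _ _ _ ((hmk _).trans e.symm), add_smul, mul_smul, mul_smul, ← hk (n w) (n z), add_comm (n z),
      ← hk (n z) (n w)]
  · have e : (IsLocalization.mk' _ (r * a z) (⟨f ^ n z, n z, rfl⟩ : Submonoid.powers f) : Localization.Away f) = r • z := by
      rw [Algebra.smul_def, ← IsLocalization.mul_mk'_eq_mk'_of_mul, hmk]
    exact (key _ _ _ _ ((hmk _).trans e.symm)).trans (mul_smul _ _ _)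
  · exact (key _ _ _ _ (hmk _)).trans (one_smul _ _)

/-- The map `⊕ Λ → Λ_f` in degree `n`: `1 ↦ 1 / f ^ n`. -/
noncomputable def locGen (n : ℕ) : ModuleCat.of Λ Λ ⟶ ModuleCat.of Λ (Localization.Away f) :=
  ModuleCat.ofHom (LinearMap.toSpanSingleton Λ _ (IsLocalization.mk' _ (1 : Λ) (⟨f ^ n, n, rfl⟩ : Submonoid.powers f)))

theorem locGen_succ (n : ℕ) : locGen f n = f • locGen f (n + 1) := by
  refine ModuleCat.hom_ext (LinearMap.ext_ring ?_)
  show (1 : Λ) • (IsLocalization.mk' _ (1 : Λ) _ : Localization.Away f) = f • (1 : Λ) • IsLocalization.mk' _ (1 : Λ) _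
  rw [one_smul, one_smul, Algebra.smul_def, IsLocalization.mul_mk'_eq_mk'_of_mul]
  refine IsLocalization.mk'_eq_iff_eq.2 (congrArg (algebraMap Λ _) ?_)
  show f ^ (n + 1) * 1 = f ^ n * (f * 1)
  ring

/-- The map `∐ PU U ⟶ j_{U!} Λ_f`. -/
noncomputable def locπ : (∐ fun _ : ℕ => PU U) ⟶ ProEtDC.locExt Λ U f :=
  Sigma.desc fun n => (freeFun U).map (locGen f n)

theorem freeFun_map_smul {M N : ModuleCat.{u + 1} Λ} (k : M ⟶ N) (a : Λ) :
    (freeFun U).map (a • k) = a • (freeFun U).map k := by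
  refine ((freeAdj U).homEquiv _ _).injective ?_
  rw [homEquiv_smul]
  have h1 := homEquiv_map U (a • k) (𝟙 _)
  have h2 := homEquiv_map U k (𝟙 _)
  rw [Category.comp_id] at h1 h2
  rw [h1, h2, Linear.smul_comp]

theorem ι_locπ (n : ℕ) : Sigma.ι (fun _ : ℕ => PU (Λ := Λ) U) n ≫ locπ U f = (freeFun U).map (locGen f n) :=
  Sigma.ι_desc _ _

theorem tel_locπ : tel f (PU U) ≫ locπ U f = 0 := by
  refine Sigma.hom_ext _ _ fun n => ?_
  rw [← Category.assoc, ι_tel, comp_zero, Preadditive.sub_comp, Category.assoc, ι_locπ, ι_locπ,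
    Linear.smul_comp, Category.id_comp, locGen_succ, freeFun_map_smul, sub_self]

noncomputable def locSC : ShortComplex (EtModW.ModP Λ X) := ShortComplex.mk (tel f (PU U)) (locπ U f) (tel_locπ U f)

theorem shortExact_locSC : (locSC U f).ShortExact := by
  haveI : Mono (locSC U f).f := mono_tel f _
  have hepi : ∀ {F : EtModW.ModP Λ X} (b : ProEtDC.locExt Λ U f ⟶ F), locπ U f ≫ b = 0 → b = 0 := fun {F} b h => by
    refine ((freeAdj U).homEquiv _ F).injective (ModuleCat.hom_ext (LinearMap.ext fun z => ?_))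
    have h0 : ∀ n, ((freeAdj U).homEquiv _ F b).hom
        (IsLocalization.mk' _ (1 : Λ) (⟨f ^ n, n, rfl⟩ : Submonoid.powers f)) = 0 := fun n => by
      have h1 := congrArg (fun t => puSec U (Sigma.ι (fun _ : ℕ => PU U) n ≫ t)) h
      rw [← Category.assoc, ι_locπ, comp_zero, puSec_zero] at h1
      rw [puSec, homEquiv_map] at h1
      exact (congrArg _ (one_smul Λ _).symm).trans h1
    have hz0 : ((freeAdj U).homEquiv (ModuleCat.of Λ (Localization.Away f)) F (0 : _ ⟶ F)).hom z = 0 := by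
      rw [← zero_smul Λ (0 : ProEtDC.locExt Λ U f ⟶ F), homEquiv_smul, zero_smul]
      rfl
    rw [hz0]
    obtain ⟨a, ⟨s, hs⟩, e⟩ := IsLocalization.exists_mk'_eq (Submonoid.powers f) z
    obtain ⟨n, rfl⟩ := hs
    rw [← e]
    have e2 : (IsLocalization.mk' _ a (⟨f ^ n, n, rfl⟩ : Submonoid.powers f) : Localization.Away f) =
        a • IsLocalization.mk' _ (1 : Λ) (⟨f ^ n, n, rfl⟩ : Submonoid.powers f) := by
      rw [Algebra.smul_def]
      exact IsLocalization.mk'_eq_mul_mk'_one _ _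
    rw [e2, map_smul, h0, smul_zero]
  haveI : Epi (locSC U f).g := Preadditive.epi_of_cancel_zero _ hepi
  refine { exact := ShortComplex.exact_of_g_is_cokernel _ ?_ }
  refine CokernelCofork.IsColimit.ofπ' _ _ fun {F} h w => ?_
  have hx : ∀ n, puSec U (Sigma.ι (fun _ : ℕ => PU U) n ≫ h) =
      f • puSec U (Sigma.ι (fun _ : ℕ => PU U) (n + 1) ≫ h) := fun n => by
    have h1 := congrArg (Sigma.ι (fun _ : ℕ => PU (Λ := Λ) U) n ≫ ·) w
    rw [← Category.assoc, show (locSC U f).f = tel f (PU U) from rfl, ι_tel, comp_zero, Preadditive.sub_comp,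
      sub_eq_zero, Category.assoc, Linear.smul_comp, Category.id_comp] at h1
    rw [h1, puSec_smul]
  choose g hg using exists_liftLoc f _ hx
  refine ⟨((freeAdj U).homEquiv (ModuleCat.of Λ (Localization.Away f)) F).symm (ModuleCat.ofHom g),
    Sigma.hom_ext _ _ fun n => puSec_injective U ?_⟩
  rw [← Category.assoc, show (locSC U f).g = locπ U f from rfl, ι_locπ, puSec, homEquiv_map, Equiv.apply_symm_apply]
  exact (congrArg g (one_smul Λ _)).trans (hg n)

end LocExt

/-- Derived completeness for one scalar, in terms of `DCO`. -/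
theorem isDCSheaf_iff (I : Ideal Λ) (F : EtModW.ModP Λ X) :
    ProEtDC.IsDCSheaf Λ I F ↔ ∀ f ∈ I, DCO f F := by
  refine ⟨fun h f hf => (dco_iff_wc f F).2 fun W hW => (dBij_pu_iff W f F).1 ?_, fun h U f hf => ?_⟩
  · exact (dBij_ext_zero_iff f _ F).1
      ((subsingleton_ext_iff f (locπ W f) (tel_locπ W f) (shortExact_locSC W f) F).1 (h W f hf) 0)
  · exact (subsingleton_ext_iff f (locπ U f) (tel_locπ U f) (shortExact_locSC U f) F).2
      fun n => dBij_ext_of_dco (h f hf) n _

end Groth.Agent.ProEtDCLib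

namespace Groth.Agent.ProEtDCLib

open CategoryTheory Limits AlgebraicGeometry Opposite

variable {Λ : Type (u + 1)} [CommRing Λ] {X : Scheme.{u}}

theorem smul_id_constantSheaf_eq_zero (M : ModuleCat.{u + 1} Λ) (a : Λ) (h : ∀ m : M, a • m = 0) :
    a • 𝟙 ((constantSheaf (Scheme.ProEt.topology X) (ModuleCat.{u + 1} Λ)).obj M) = 0 := by
  let adj := sheafificationAdjunction (Scheme.ProEt.topology X) (ModuleCat.{u + 1} Λ)
  refine (adj.homEquiv ((Functor.const _).obj M) _).injective ?_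
  ext V m
  rw [Adjunction.homEquiv_unit, Adjunction.homEquiv_unit]
  show a • ((adj.unit.app ((Functor.const _).obj M)).app V).hom m =
    (((sheafToPresheaf _ _).map (0 : (constantSheaf (Scheme.ProEt.topology X) (ModuleCat.{u + 1} Λ)).obj M ⟶ _)).app V).hom
      (((adj.unit.app ((Functor.const _).obj M)).app V).hom m)
  rw [← map_smul, h, map_zero]
  rfl

theorem exists_sum_of_modGensIsZero {r : ℕ} (a : Fin r → Λ) {F : EtModW.ModP Λ X}
    (h : ProEtDC.ModGensIsZero Λ a F) {W : X.ProEt} (hW : ProEtS.IsWC W) (x : F.obj.obj (op W)) :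
    ∃ c : Fin r → F.obj.obj (op W), ∑ k, a k • c k = x := by
  haveI := projective_pu (Λ := Λ) W hW
  haveI : Epi (biproduct.desc fun k : Fin r => ProEtDC.smulHom Λ F (a k)) := h
  let t : PU W ⟶ ⨁ fun _ : Fin r => F :=
    Projective.factorThru (puHom W F x) (biproduct.desc fun k : Fin r => ProEtDC.smulHom Λ F (a k))
  refine ⟨fun k => puSec W (t ≫ biproduct.π (fun _ : Fin r => F) k), ?_⟩
  have ht : ∑ k, a k • (t ≫ biproduct.π (fun _ : Fin r => F) k) = puHom W F x := by
    refine Eq.trans ?_ (Projective.factorThru_comp (puHom W F x) (biproduct.desc fun k : Fin r => ProEtDC.smulHom Λ F (a k)))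
    refine Eq.trans ?_ (congrArg (t ≫ ·) biproduct.desc_eq).symm
    rw [Preadditive.comp_sum]
    refine Finset.sum_congr rfl fun k _ => ?_
    rw [smulHom_eq, Linear.comp_smul, Linear.comp_smul, Category.comp_id]
  rw [← puSec_puHom W F x, ← ht]
  show _ = puAddEquiv W F _
  rw [map_sum]
  exact Finset.sum_congr rfl fun k _ => (puSec_smul W _ _).symm

end Groth.Agent.ProEtDCLib
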