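import Groth.Agent.ProEtDCLib.Sheaf
import Groth.Agent.ProEtDCLib.DerivedDC

/-!
# Derived complete objects of the derived category of pro-étale sheaves
-/

set_option autoImplicit false
set_option linter.style.haveILetI false
set_option backward.isDefEq.respectTransparency false
set_option backward.isDefEq.respectTransparency.types false
set_option maxHeartbeats 1000000
universe u

namespace Groth.Agent.ProEtDCLib

open CategoryTheory Limits AlgebraicGeometry Opposite
attribute [local instance] HasDerivedCategory.standard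

variable {Λ : Type (u + 1)} [CommRing Λ] {X : Scheme.{u}}

/-- `H^m` of a shift. -/
noncomputable def hShiftIso (K : ProEtDC.DP Λ X) (n m p : ℤ) (h : n + m = p) :
    (DerivedCategory.homologyFunctor (EtModW.ModP Λ X) m).obj
        ((shiftFunctor (ProEtDC.DP Λ X) n).obj K) ≅ ProEtDC.HDP K p :=
  ((DerivedCategory.homologyFunctor (EtModW.ModP Λ X) 0).shiftIso n m p h).app K

theorem isDC_iff (I : Ideal Λ) (K : ProEtDC.DP Λ X) :
    ProEtDC.IsDC Λ I K ↔ ∀ p : ℤ, ProEtDC.IsDCSheaf Λ I (ProEtDC.HDP K p) := by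
  refine ⟨fun h p => (isDCSheaf_iff I _).2 fun f hf => (dco_iff_wc f _).2 fun W hW => ?_,
    fun h U f hf => ?_⟩
  · haveI := projective_pu (Λ := Λ) W hW
    have h1 := (subsingleton_dHom_iff f (locπ W f) (tel_locπ W f) (shortExact_locSC W f) K).1 (h W f hf) p
    have h2 := (dBij_dSmul_iff_of_projective f (PU W) _).1 h1
    let e := hShiftIso K p 0 p (add_zero p)
    refine (dBij_pu_iff W f _).1 (h2.of_bijective (Preadditive.rightComp _ e.hom)
      ⟨fun a b hab => (cancel_mono e.hom).1 hab,
        fun b => ⟨b ≫ e.inv, show (b ≫ e.inv) ≫ e.hom = b by rw [Category.assoc, e.inv_hom_id, Category.comp_id]⟩⟩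
      (preSmul_rightComp f _ _))
  · refine (subsingleton_dHom_iff f (locπ U f) (tel_locπ U f) (shortExact_locSC U f) K).2 fun n => ?_
    obtain ⟨J, hJ, ⟨e⟩⟩ := exists_kInj ((shiftFunctor (ProEtDC.DP Λ X) n).obj K)
    refine dBij_dSmul_iso f _ e (dBij_dSmul_of_dco f J (fun m => ?_) _)
    exact dco_of_iso (((DerivedCategory.homologyFunctorFactors (EtModW.ModP Λ X) m).app J).symm ≪≫
      (DerivedCategory.homologyFunctor (EtModW.ModP Λ X) m).mapIso e ≪≫ hShiftIso K n m (n + m) rfl)
      ((isDCSheaf_iff I _).1 (h _) f hf)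

end Groth.Agent.ProEtDCLib
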